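import Mathlib
import Groth.Agent.InvLib.DepthLocalize
import Groth.Agent.CAlgH3.Depth
import Groth.Agent.S0605
import Groth.Agent.SegreDim.CMUnmixed
import Groth.Agent.CommAlg6.AtPrime

/-! Cohen–Macaulay modules and projectivity over a regular base. -/

set_option autoImplicit false
universe u

namespace Groth.Agent.SegreOne

/-- Finite projective modules over a regular base are Cohen–Macaulay over any algebra acting on them. -/
theorem cm_of_projective {B T : Type u} [CommRing B] [IsRegularRing B] [CommRing T] [IsNoetherianRing T]
    [Algebra B T] (P : Type u) [AddCommGroup P] [Module T P] [Module B P] [IsScalarTower B T P]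
    [Module.Finite B P] [Module.Projective B P] (q : Ideal T) [q.IsPrime] :
    Subsingleton (LocalizedModule q.primeCompl P) ∨
      LocCoh.IsCohenMacaulayModule (Localization.AtPrime q) (LocalizedModule q.primeCompl P) := by
  refine (subsingleton_or_nontrivial (LocalizedModule q.primeCompl P)).imp id fun hn => ?_
  haveI := hn
  have : Module.Finite T P := Module.Finite.of_restrictScalars_finite B T P
  let p := q.comap (algebraMap B T)
  have : IsRegularLocalRing (Localization.AtPrime p) := IsRegularRing.isRegularLocalRing_localization p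
  let Bp := Localization.AtPrime p
  let Pp := LocalizedModule p.primeCompl P
  have : Module.Flat Bp Pp :=
    Module.Flat.of_isLocalizedModule Bp p.primeCompl (LocalizedModule.mkLinearMap p.primeCompl P)
  have : Module.Finite Bp Pp :=
    Module.Finite.of_isLocalizedModule p.primeCompl (LocalizedModule.mkLinearMap p.primeCompl P)
  have : Module.Free Bp Pp := Module.free_of_flat_of_isLocalRing
  have hq : (⟨q, inferInstance⟩ : PrimeSpectrum T) ∈
      {q' : PrimeSpectrum T | q'.asIdeal.comap (algebraMap B T) = p ∧ q' ∈ Module.support T P} :=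
    ⟨rfl, Module.mem_support_iff.mpr hn⟩
  obtain ⟨hd, hp⟩ := InvLib.supportDim_depth_eq (B := T) P p
  have hne : Nontrivial Pp := by
    by_contra h
    rw [not_nontrivial_iff_subsingleton] at h
    have h1 : Module.supportDim (Localization.AtPrime q) (LocalizedModule q.primeCompl P) ≤ ⊥ := by
      rw [← Module.supportDim_eq_bot_of_subsingleton Bp Pp, hd]
      exact le_iSup₂_of_le _ hq le_rfl
    exact Module.supportDim_ne_bot_of_nontrivial _ _ (le_bot_iff.mp h1)
  have h1 : ((LocCoh.depth Bp Pp : ℕ∞) : WithBot ℕ∞) = ringKrullDim Bp := by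
    rw [CAlgH3.depth_free]
    exact ((CAlgH3.isCohenMacaulayLocalRing_iff_depth Bp).mp
      (CAlgH3.isCohenMacaulayLocalRing_of_regular Bp)).symm
  refine le_antisymm ?_ CAlgH3.depth_le_supportDim
  calc Module.supportDim (Localization.AtPrime q) (LocalizedModule q.primeCompl P)
      ≤ Module.supportDim Bp Pp := by rw [hd]; exact le_iSup₂_of_le _ hq le_rfl
    _ ≤ ringKrullDim Bp := Module.supportDim_le_ringKrullDim _ _
    _ = _ := h1.symm
    _ ≤ _ := WithBot.coe_le_coe.mpr (by rw [hp]; exact iInf₂_le_of_le _ hq le_rfl)

variable {k : Type u} [Field k] {S : Type u} [CommRing S] [Algebra k S] [Algebra.FiniteType k S]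
  {N : Type u} [AddCommGroup N] [Module S N] [Module.Finite S N]

/-- An associated prime bounds the dimension at every maximal ideal containing it. -/
theorem le_supportDim_localized (k : Type u) [Field k] [Algebra k S] [Algebra.FiniteType k S]
    {Q q : Ideal S} (hQ : Q ∈ associatedPrimes S N) [hq : q.IsMaximal] (hle : Q ≤ q) :
    ringKrullDim (S ⧸ Q) ≤ Module.supportDim (Localization.AtPrime q) (LocalizedModule q.primeCompl N) := by
  haveI : IsNoetherianRing S := Algebra.FiniteType.isNoetherianRing k S
  haveI := IsAssociatedPrime.isPrime hQ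
  haveI hmM : (q.map (Ideal.Quotient.mk Q)).IsMaximal :=
    (Ideal.map_eq_top_or_isMaximal_of_surjective _ Ideal.Quotient.mk_surjective hq).resolve_left
      fun h => hq.ne_top (by
        have h' := congrArg (Ideal.comap (Ideal.Quotient.mk Q)) h
        rwa [LocCoh.comap_map_mk hle, Ideal.comap_top] at h')
  rw [W4Gr15.ringKrullDim_eq_height_of_minimalPrimes_le (K := k) (q.map (Ideal.Quotient.mk Q))
      (fun q' hq' => by
        rw [IsDomain.minimalPrimes_eq_singleton_bot, Set.mem_singleton_iff] at hq'
        rw [hq']; exact bot_le),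
    ← IsLocalization.AtPrime.ringKrullDim_eq_height _ (Localization.AtPrime (q.map (Ideal.Quotient.mk Q)))]
  obtain ⟨e⟩ := CommAlg6.localization_quotient_ringEquiv Q q hle
  rw [ringKrullDim_eq_of_ringEquiv e]
  have hdisj : Disjoint (q.primeCompl : Set S) Q := Set.disjoint_compl_left_iff_subset.2 hle
  have hass : Q.map (algebraMap S (Localization.AtPrime q)) ∈
      associatedPrimes (Localization.AtPrime q) (LocalizedModule q.primeCompl N) :=
    Module.associatedPrimes.mem_associatedPrimes_of_comap_mem_associatedPrimes_of_isLocalizedModule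
      q.primeCompl (LocalizedModule.mkLinearMap q.primeCompl N) _
      (by
        show (Q.map (algebraMap S (Localization.AtPrime q))).under S ∈ associatedPrimes S N
        rw [IsLocalization.under_map_of_isPrime_disjoint q.primeCompl _ ‹_› hdisj]
        exact hQ)
  refine CAlgH3.ringKrullDim_quotient_le_supportDim (p := ⟨_, hass.isPrime⟩) ?_
  rw [Module.support_eq_zeroLocus]
  exact hass.annihilator_le.trans' (by rw [Submodule.annihilator_top])

/-- A module finite over the parameters. -/
theorem finite_of_integral {l : ℕ} (z : Fin l → S)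
    (hint : ((Ideal.Quotient.mkₐ k (Module.annihilator S N)).comp (MvPolynomial.aeval z)).toRingHom.IsIntegral) :
    letI := Module.compHom N (MvPolynomial.aeval (R := k) z).toRingHom
    Module.Finite (MvPolynomial (Fin l) k) N := by
  let A := MvPolynomial (Fin l) k
  let J := Module.annihilator S N
  let hT : Module.IsTorsionBySet S N (J : Set S) := fun m r => Module.mem_annihilator.mp r.2 m
  letI : Module (S ⧸ J) N := hT.module
  haveI : Module.Finite (S ⧸ J) N := Module.Finite.of_restrictScalars_finite S _ _
  letI : Module A N := Module.compHom N (MvPolynomial.aeval (R := k) z).toRingHom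
  let χ : A →+* S ⧸ J := ((Ideal.Quotient.mkₐ k J).comp (MvPolynomial.aeval z)).toRingHom
  letI : Algebra A (S ⧸ J) := χ.toAlgebra
  haveI : IsScalarTower A (S ⧸ J) N := IsScalarTower.of_algebraMap_smul fun a m => rfl
  haveI : Module.Finite A (S ⧸ J) := by
    have hft : χ.FiniteType := by
      refine RingHom.FiniteType.of_comp_finiteType (f := algebraMap k A) ?_
      rw [show χ.comp (algebraMap k A) = algebraMap k (S ⧸ J) from
        ((Ideal.Quotient.mkₐ k J).comp (MvPolynomial.aeval z)).comp_algebraMap]
      exact RingHom.finiteType_algebraMap.mpr inferInstance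
    exact RingHom.IsIntegral.to_finite hint hft
  exact Module.Finite.trans (S ⧸ J) N

/-- Unmixed Cohen–Macaulay modules are projective over the parameters. -/
theorem projective_of_cm {l : ℕ} (z : Fin l → S)
    (hint : ((Ideal.Quotient.mkₐ k (Module.annihilator S N)).comp (MvPolynomial.aeval z)).toRingHom.IsIntegral)
    (hcm : ∀ (q : Ideal S) [q.IsPrime], Subsingleton (LocalizedModule q.primeCompl N) ∨
      LocCoh.IsCohenMacaulayModule (Localization.AtPrime q) (LocalizedModule q.primeCompl N))
    (hass : ∀ Q ∈ associatedPrimes S N, ringKrullDim (S ⧸ Q) = (l : WithBot ℕ∞)) :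
    letI := Module.compHom N (MvPolynomial.aeval (R := k) z).toRingHom
    Module.Projective (MvPolynomial (Fin l) k) N := by
  let A := MvPolynomial (Fin l) k
  haveI : IsNoetherianRing S := Algebra.FiniteType.isNoetherianRing k S
  letI : Module A N := Module.compHom N (MvPolynomial.aeval (R := k) z).toRingHom
  letI : Algebra A S := (MvPolynomial.aeval (R := k) z).toRingHom.toAlgebra
  haveI : IsScalarTower A S N := IsScalarTower.of_algebraMap_smul fun a m => rfl
  haveI : Module.Finite A N := finite_of_integral z hint
  haveI : Module.FinitePresentation A N := Module.finitePresentation_of_finite A N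
  refine Module.projective_of_localization_maximal (fun p hp => ?_)
  haveI : IsRegularLocalRing (Localization.AtPrime p) := IsRegularRing.isRegularLocalRing_localization p
  haveI : Module.Finite (Localization.AtPrime p) (LocalizedModule p.primeCompl N) :=
    Module.Finite.of_isLocalizedModule p.primeCompl (LocalizedModule.mkLinearMap p.primeCompl N)
  rcases subsingleton_or_nontrivial (LocalizedModule p.primeCompl N) with hs | hn
  · infer_instance
  suffices Module.Free (Localization.AtPrime p) (LocalizedModule p.primeCompl N) from inferInstance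
  apply S0605.result
  refine le_antisymm (CAlgH3.depth_le_supportDim.trans (Module.supportDim_le_ringKrullDim _ _)) ?_
  obtain ⟨d, hd⟩ : ∃ d : ℕ∞, ((d : ℕ∞) : WithBot ℕ∞) = ringKrullDim (Localization.AtPrime p) :=
    WithBot.ne_bot_iff_exists.mp ringKrullDim_ne_bot
  rw [← hd, WithBot.coe_le_coe, (InvLib.supportDim_depth_eq (B := S) N p).2]
  refine le_iInf₂ fun q hq => WithBot.coe_le_coe.mp ?_
  rw [hd]
  have hsup := hq.2
  rw [Module.support_eq_zeroLocus] at hsup
  have hJ : Module.annihilator S N ≤ q.asIdeal := hsup
  haveI hqm : q.asIdeal.IsMaximal := by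
    letI : Algebra A (S ⧸ Module.annihilator S N) :=
      ((Ideal.Quotient.mk (Module.annihilator S N)).comp (algebraMap A S)).toAlgebra
    haveI : Algebra.IsIntegral A (S ⧸ Module.annihilator S N) := ⟨hint⟩
    haveI : (q.asIdeal.map (Ideal.Quotient.mk (Module.annihilator S N))).IsPrime :=
      Ideal.map_isPrime_of_surjective Ideal.Quotient.mk_surjective (by rwa [Ideal.mk_ker])
    have hc : (q.asIdeal.map (Ideal.Quotient.mk (Module.annihilator S N))).comap
        (Ideal.Quotient.mk (Module.annihilator S N)) = q.asIdeal := LocCoh.comap_map_mk hJ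
    have h1 : ((q.asIdeal.map (Ideal.Quotient.mk (Module.annihilator S N))).comap
        (algebraMap A (S ⧸ Module.annihilator S N))).IsMaximal := by
      rw [show algebraMap A (S ⧸ Module.annihilator S N) = (Ideal.Quotient.mk _).comp (algebraMap A S) from rfl,
        ← Ideal.comap_comap, hc, hq.1]
      exact hp
    have h2 := Ideal.isMaximal_of_isIntegral_of_isMaximal_comap
      (q.asIdeal.map (Ideal.Quotient.mk (Module.annihilator S N))) h1
    rw [← hc]
    exact Ideal.comap_isMaximal_of_surjective _ Ideal.Quotient.mk_surjective
  rcases hcm q.asIdeal with hs | hc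
  · exact absurd hs (not_subsingleton_iff_nontrivial.mpr (Module.mem_support_iff.mp hq.2))
  rw [← show Module.supportDim _ (LocalizedModule q.asIdeal.primeCompl N) = _ from hc]
  obtain ⟨Q, hQ, hQle⟩ := Ideal.exists_minimalPrimes_le hJ
  refine le_trans (le_trans ?_ (le_of_eq
    (hass Q (Module.associatedPrimes.minimalPrimes_annihilator_subset_associatedPrimes S N hQ)).symm))
    (le_supportDim_localized k
      (Module.associatedPrimes.minimalPrimes_annihilator_subset_associatedPrimes S N hQ) hQle)
  have hA : ringKrullDim A = (l : WithBot ℕ∞) := by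
    rw [MvPolynomial.ringKrullDim_of_isNoetherianRing, ringKrullDim_eq_zero_of_field]; simp
  rw [← hA, IsLocalization.AtPrime.ringKrullDim_eq_height p]
  exact Ideal.height_le_ringKrullDim_of_ne_top hp.ne_top

end Groth.Agent.SegreOne
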