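import Mathlib
import Groth.Prelude.Def_GrSeg
import Groth.Agent.GrLib.Basic
import Groth.Agent.SegreDim.DimOneGor

/-! Pieces of Segre products. -/

set_option autoImplicit false
set_option linter.unusedSectionVars false
universe u

open DirectSum TensorProduct

namespace Groth.Agent.SegreOne

variable {k : Type u} [Field k]
  {R : Type u} [CommRing R] [Algebra k R] (𝒜 : ℤ → Submodule k R) [GradedAlgebra 𝒜]
  {S : Type u} [CommRing S] [Algebra k S] (ℬ : ℤ → Submodule k S) [GradedAlgebra ℬ]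
  {T : Type u} [CommRing T] [Algebra k T] (𝒯 : ℤ → Submodule k T) [GradedAlgebra 𝒯]
  (ψ : T →ₐ[k] R ⊗[k] S)
  (hdegT : ∀ n : ℤ, (𝒯 n).map ψ.toLinearMap = GrSeg.segrePiece k 𝒜 ℬ n)
  {M : Type u} [AddCommGroup M] [Module R M] [Module k M] [IsScalarTower k R M]
  {τ : Type u} [SetLike τ M] [AddSubgroupClass τ M] (ℳ : ℤ → τ) [SetLike.GradedSMul 𝒜 ℳ]
  {N : Type u} [AddCommGroup N] [Module S N] [Module k N] [IsScalarTower k S N]
  {τ' : Type u} [SetLike τ' N] [AddSubgroupClass τ' N] (𝒩 : ℤ → τ') [SetLike.GradedSMul ℬ 𝒩]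
  {P : Type u} [AddCommGroup P] [Module T P] [Module k P] [IsScalarTower k T P]
  {τQ : Type u} [SetLike τQ P] [AddSubgroupClass τQ P] (𝒬 : ℤ → τQ)
  (φ : P →ₗ[k] M ⊗[k] N) (hφ : Function.Injective φ)
  (hdegP : ∀ n : ℤ, φ '' (𝒬 n : Set P) = (GrSeg.segrePiece k ℳ 𝒩 n : Set (M ⊗[k] N)))
  (hsmul : ∀ (t : T) (p : P), φ (t • p) = GrSeg.act k R S M N (ψ t) (φ p))

theorem act_mem_piece' {a n : ℤ} {z : R ⊗[k] S} (hz : z ∈ GrSeg.segrePiece k 𝒜 ℬ a) {w : M ⊗[k] N}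
    (hw : w ∈ GrSeg.segrePiece k ℳ 𝒩 n) : GrSeg.act k R S M N z w ∈ GrSeg.segrePiece k ℳ 𝒩 (a + n) := by
  induction hz using Submodule.span_induction with
  | mem z hz =>
    obtain ⟨r, hr, s, hs, rfl⟩ := hz
    induction hw using Submodule.span_induction with
    | mem w hw =>
      obtain ⟨x, hx, b, hb, rfl⟩ := hw
      rw [GrSeg.act_tmul]
      exact Submodule.subset_span ⟨_, SetLike.GradedSMul.smul_mem hr hx, _, SetLike.GradedSMul.smul_mem hs hb, rfl⟩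
    | zero => simp
    | add p q _ _ hp hq => rw [map_add]; exact add_mem hp hq
    | smul c p _ hp => rw [map_smul]; exact Submodule.smul_mem _ c hp
  | zero => simp
  | add p q _ _ hp hq => rw [map_add, LinearMap.add_apply]; exact add_mem hp hq
  | smul c p _ hp => rw [map_smul, LinearMap.smul_apply]; exact Submodule.smul_mem _ c hp

include hdegT hdegP hsmul hφ in
theorem gradedSMul' : SetLike.GradedSMul 𝒯 𝒬 := ⟨fun {a n t p} ht hp => by
  have h1 : φ (t • p) ∈ (GrSeg.segrePiece k ℳ 𝒩 (a + n) : Set (M ⊗[k] N)) := by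
    rw [hsmul]
    refine act_mem_piece' 𝒜 ℬ ℳ 𝒩 ?_ ((hdegP n).subset ⟨p, hp, rfl⟩)
    rw [← hdegT]; exact ⟨t, ht, rfl⟩
  rw [← hdegP] at h1
  obtain ⟨q, hq, hqe⟩ := h1
  exact hφ hqe ▸ hq⟩

omit [GradedAlgebra 𝒜] in
include hdegT in
theorem exists_lift {n : ℤ} {r : R} (hr : r ∈ 𝒜 n) {s : S} (hs : s ∈ ℬ n) : ∃ t ∈ 𝒯 n, ψ t = r ⊗ₜ[k] s := by
  have : r ⊗ₜ[k] s ∈ (𝒯 n).map ψ.toLinearMap := by
    rw [hdegT]; exact Submodule.subset_span ⟨r, hr, s, hs, rfl⟩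
  exact this

theorem proj_smul_of_mem [DirectSum.Decomposition 𝒬] [SetLike.GradedSMul 𝒯 𝒬] {i : ℤ} {p : P} (hp : p ∈ 𝒬 i)
    (g : ℤ) (t : T) : GrLib.proj 𝒬 g (t • p) = (decompose 𝒯 t (g - i) : T) • p := by
  induction t using GrLib.induction 𝒯 with
  | zero => simp
  | hom c t ht =>
    have h := GrLib.smul_mem (𝒜 := 𝒯) (ℳ := 𝒬) ht hp
    by_cases e : c = g - i
    · subst e
      rw [decompose_of_mem_same 𝒯 ht, GrLib.proj_of_mem (g := g) (by rwa [sub_add_cancel] at h)]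
    · rw [decompose_of_mem_ne 𝒯 ht e, zero_smul, GrLib.proj_of_mem_ne h (by omega)]
  | add a b ha hb => rw [add_smul, map_add, ha, hb, decompose_add, DirectSum.add_apply]; simp [add_smul]

end Groth.Agent.SegreOne
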