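import Mathlib
import Groth.Agent.SegreOne.CMBase
import Groth.Agent.GrLib.Basic
import Groth.Agent.SegreDim.Diag

/-! Degree shifting along a regular element of a graded module of dimension one. -/

set_option autoImplicit false
universe u

open DirectSum

namespace Groth.Agent.SegreOne

/-- A linear map given on the pieces of a grading. -/
theorem exists_liftPieces {k M W : Type u} [CommRing k] [AddCommGroup M] [Module k M] [AddCommGroup W]
    [Module k W] {τ : Type u} [SetLike τ M] [AddSubgroupClass τ M] (ℳ : ℤ → τ) [DirectSum.Decomposition ℳ]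
    (hsm : ∀ (c : k) (i : ℤ) (a : M), a ∈ ℳ i → c • a ∈ ℳ i)
    (g : ℤ → M → W) (hadd : ∀ i a b, a ∈ ℳ i → b ∈ ℳ i → g i (a + b) = g i a + g i b)
    (hsmul : ∀ (c : k) i a, a ∈ ℳ i → g i (c • a) = c • g i a) :
    ∃ F : M →ₗ[k] W, ∀ i a, a ∈ ℳ i → F a = g i a := by
  classical
  let F₀ : M →+ W := (DirectSum.toAddMonoid fun i : ℤ =>
      AddMonoidHom.mk' (fun a : ℳ i => g i (a : M)) fun a b => hadd i a b a.2 b.2).comp
    (decomposeAddEquiv ℳ).toAddMonoidHom
  have hF : ∀ i a, a ∈ ℳ i → F₀ a = g i a := fun i a ha => by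
    rw [AddMonoidHom.comp_apply, AddEquiv.coe_toAddMonoidHom, decomposeAddEquiv_apply,
      decompose_of_mem ℳ ha, DirectSum.toAddMonoid_of]
    rfl
  refine ⟨{ toFun := F₀, map_add' := map_add _, map_smul' := fun c m => ?_ }, hF⟩
  simp only [RingHom.id_apply]
  induction m using GrLib.induction ℳ with
  | zero => rw [smul_zero, map_zero, smul_zero]
  | hom i a ha => rw [hF i _ (hsm c i a ha), hF i a ha, hsmul c i a ha]
  | add a b ha hb => rw [smul_add, map_add, ha, hb, map_add, smul_add]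

variable {k : Type u} [Field k] {R : Type u} [CommRing R] [Algebra k R] (𝒜 : ℤ → Submodule k R)
  [GradedAlgebra 𝒜]
  {M : Type u} [AddCommGroup M] [Module R M] [Module k M] [IsScalarTower k R M]
  {τ : Type u} [SetLike τ M] [AddSubgroupClass τ M] (ℳ : ℤ → τ) [DirectSum.Decomposition ℳ]
  [SetLike.GradedSMul 𝒜 ℳ]

variable {D : ℕ} {y : R} (hy : y ∈ 𝒜 (D : ℤ))

include 𝒜 hy in
theorem pow_smul_mem {n : ℤ} {x : M} (hx : x ∈ ℳ n) (j : ℕ) : y ^ j • x ∈ ℳ (n + j * D) := by
  have h := GrLib.smul_mem (𝒜 := 𝒜) (ℳ := ℳ) (SetLike.pow_mem_graded (A := 𝒜) j hy) hx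
  rwa [nsmul_eq_mul, add_comm] at h

include 𝒜 hy in
theorem proj_X_smul (n : ℤ) (z : M) : GrLib.proj ℳ n (y • z) = y • GrLib.proj ℳ (n - D) z := by
  induction z using GrLib.induction ℳ with
  | zero => simp
  | hom i a ha =>
    have h := GrLib.smul_mem (𝒜 := 𝒜) (ℳ := ℳ) hy ha
    by_cases e : i = n - D
    · subst e
      rw [GrLib.proj_of_mem ha, GrLib.proj_of_mem (g := n) (by rwa [add_sub_cancel] at h)]
    · rw [GrLib.proj_of_mem_ne ha e, GrLib.proj_of_mem_ne h (by omega), smul_zero]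
  | add a b ha hb => rw [smul_add, map_add, ha, hb, map_add, smul_add]

include hy in
/-- Homogeneous generators over the parameter. -/
theorem exists_generators [Module.Finite R M] [Algebra.FiniteType k R]
    (hint : ((Ideal.Quotient.mkₐ k (Module.annihilator R M)).comp
      (MvPolynomial.aeval fun _ : Fin 1 => y)).toRingHom.IsIntegral) :
    ∃ G : Finset (ℤ × M), (∀ g ∈ G, g.2 ∈ ℳ g.1) ∧ ∀ n : ℤ, ∀ x ∈ ℳ n,
      x ∈ Submodule.span k {z : M | ∃ g ∈ G, ∃ j : ℕ, g.1 + j * D = n ∧ z = y ^ j • g.2} := by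
  classical
  let A := MvPolynomial (Fin 1) k
  letI : Module A M := Module.compHom M (MvPolynomial.aeval (R := k) fun _ : Fin 1 => y).toRingHom
  haveI : Module.Finite A M := finite_of_integral _ hint
  obtain ⟨gs, hgs⟩ := (inferInstance : Module.Finite A M).fg_top
  let G : Finset (ℤ × M) := gs.biUnion fun g => (decompose ℳ g).support.image fun i => (i, (decompose ℳ g i : M))
  refine ⟨G, fun g hg => ?_, ?_⟩
  · obtain ⟨g₀, -, hg⟩ := Finset.mem_biUnion.mp hg
    obtain ⟨i, -, rfl⟩ := Finset.mem_image.mp hg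
    exact (decompose ℳ g₀ i).2
  let S : ℤ → Submodule k M := fun n =>
    Submodule.span k {z : M | ∃ g ∈ G, ∃ j : ℕ, g.1 + j * D = n ∧ z = y ^ j • g.2}
  have hX : ∀ n, ∀ z ∈ S (n - D), y • z ∈ S n := by
    intro n z hz
    induction hz using Submodule.span_induction with
    | mem z hz =>
      obtain ⟨g, hg, j, hj, rfl⟩ := hz
      refine Submodule.subset_span ⟨g, hg, j + 1, by push_cast; linarith, ?_⟩
      rw [pow_succ', mul_smul]
    | zero => rw [smul_zero]; exact zero_mem _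
    | add a b _ _ ha hb => rw [smul_add]; exact add_mem ha hb
    | smul c a _ ha => rw [smul_comm]; exact Submodule.smul_mem _ c ha
  suffices ∀ z : M, ∀ n, GrLib.proj ℳ n z ∈ S n by
    intro n x hx
    have := this x n
    rwa [GrLib.proj_of_mem hx] at this
  intro z
  have hz : z ∈ Submodule.span A (gs : Set M) := hgs ▸ Submodule.mem_top
  induction hz using Submodule.span_induction with
  | mem g hg =>
    intro n
    by_cases h : n ∈ (decompose ℳ g).support
    · exact Submodule.subset_span ⟨(n, _), Finset.mem_biUnion.mpr ⟨g, hg, Finset.mem_image_of_mem _ h⟩,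
        0, by simp, by simp [GrLib.proj_apply]⟩
    · rw [DFinsupp.notMem_support_iff] at h
      rw [GrLib.proj_apply, h]; exact zero_mem _
  | zero => intro n; rw [map_zero]; exact zero_mem _
  | add a b _ _ ha hb => intro n; rw [map_add]; exact add_mem (ha n) (hb n)
  | smul q a _ ha =>
    change ∀ n, GrLib.proj ℳ n ((MvPolynomial.aeval (R := k) fun _ : Fin 1 => y) q • a) ∈ S n
    induction q using MvPolynomial.induction_on with
    | C c =>
      intro n
      rw [MvPolynomial.aeval_C, algebraMap_smul]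
      have hc : GrLib.proj ℳ n (c • a) = c • GrLib.proj ℳ n a :=
        (SegreDim.pieceProj 𝒜 ℳ n).map_smul c a
      rw [hc]; exact Submodule.smul_mem _ c (ha n)
    | add p q hp hq => intro n; rw [map_add, add_smul, map_add]; exact add_mem (hp n) (hq n)
    | mul_X p i hp =>
      intro n
      rw [map_mul, MvPolynomial.aeval_X, mul_comm, mul_smul, proj_X_smul 𝒜 ℳ hy]
      exact hX n _ (hp _)

include hy in
/-- High pieces are divisible by the parameter. -/
theorem exists_divisible [Module.Finite R M] [Algebra.FiniteType k R] (hD : 0 < D)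
    (hint : ((Ideal.Quotient.mkₐ k (Module.annihilator R M)).comp
      (MvPolynomial.aeval fun _ : Fin 1 => y)).toRingHom.IsIntegral) :
    ∃ n₀ : ℤ, ∀ n ≥ n₀, ∀ j : ℕ, ∀ x ∈ ℳ (n + j * D), ∃ x' ∈ ℳ n, x = y ^ j • x' := by
  classical
  obtain ⟨G, hG, hspan⟩ := exists_generators 𝒜 ℳ hy hint
  obtain ⟨B, hB⟩ := (G.image Prod.fst).bddAbove
  refine ⟨B, fun n hn j x hx => ?_⟩
  have h := hspan _ x hx
  refine Submodule.span_induction (p := fun x _ => ∃ x' ∈ ℳ n, x = y ^ j • x') ?_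
    ⟨0, zero_mem _, by simp⟩ (fun a b _ _ ⟨u, hu, hu'⟩ ⟨v, hv, hv'⟩ =>
      ⟨u + v, add_mem hu hv, by rw [smul_add, hu', hv']⟩)
    (fun c a _ ⟨u, hu, hu'⟩ => ⟨c • u, SegreDim.smul_mem_piece 𝒜 ℳ c hu, by rw [hu', smul_comm]⟩) h
  rintro _ ⟨g, hg, j', hj', rfl⟩
  have hgB : g.1 ≤ n := le_trans (hB (Finset.mem_coe.mpr (Finset.mem_image_of_mem _ hg))) hn
  have hjj : j ≤ j' := by
      have : (j : ℤ) * D ≤ (j' : ℤ) * D := by linarith
      exact_mod_cast le_of_mul_le_mul_right this (by exact_mod_cast hD)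
  obtain ⟨l, rfl⟩ := Nat.exists_eq_add_of_le hjj
  refine ⟨y ^ l • g.2, ?_, by rw [pow_add, mul_smul]⟩
  have := pow_smul_mem 𝒜 ℳ hy (hG g hg) l
  rwa [show g.1 + (l : ℤ) * D = n by push_cast at hj'; linarith] at this

variable (D y) in
/-- `x ∈ ℳ n` is the shift of `m` from degree `i`. -/
def Rel (n i : ℤ) (x m : M) : Prop :=
  x ∈ ℳ n ∧ ∃ a b : ℕ, n + a * D = i + b * D ∧ y ^ a • x = y ^ b • m

variable (D y) in
/-- Every element of higher degree congruent to `n` comes from degree `n`. -/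
def Good (n : ℤ) : Prop := ∀ j : ℕ, ∀ x ∈ ℳ (n + j * D), ∃ x' ∈ ℳ n, x = y ^ j • x'

variable {ℳ}

theorem Rel.unique (hD : 0 < D) (hreg : IsSMulRegular M y) {n i : ℤ} {x x' m : M}
    (h : Rel ℳ D y n i x m) (h' : Rel ℳ D y n i x' m) : x = x' := by
  obtain ⟨-, a, b, e, hx⟩ := h
  obtain ⟨-, a', b', e', hx'⟩ := h'
  have hab : a + b' = a' + b := by
    have : ((a + b' : ℕ) : ℤ) * D = ((a' + b : ℕ) : ℤ) * D := by push_cast; linarith
    exact_mod_cast mul_right_cancel₀ (by exact_mod_cast hD.ne') this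
  have h1 : y ^ (a + b') • x = y ^ (a + b') • x' := by
    calc y ^ (a + b') • x = y ^ b' • (y ^ a • x) := by rw [← mul_smul, ← pow_add, add_comm]
      _ = y ^ b • (y ^ b' • m) := by rw [hx, smul_comm]
      _ = y ^ (a + b') • x' := by rw [← hx', ← mul_smul, ← pow_add, hab, add_comm]
  exact (hreg.pow (a + b')) h1

include 𝒜 hy in
theorem exists_rel (hD : 0 < D) {n i : ℤ} (hgood : Good ℳ D y n) (hdvd : (D : ℤ) ∣ i - n) {m : M}
    (hm : m ∈ ℳ i) : ∃ x, Rel ℳ D y n i x m := by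
  obtain ⟨q, hq⟩ := hdvd
  rcases le_total 0 q with h | h
  · obtain ⟨j, rfl⟩ := Int.eq_ofNat_of_zero_le h
    obtain rfl : i = n + j * D := by linarith
    obtain ⟨x, hx, hxm⟩ := hgood j m hm
    exact ⟨x, hx, j, 0, by simp, by rw [pow_zero, one_smul, hxm]⟩
  · obtain ⟨j, hj⟩ := Int.eq_ofNat_of_zero_le (neg_nonneg.mpr h)
    obtain rfl : q = -(j : ℤ) := by omega
    obtain rfl : n = i + j * D := by linarith
    exact ⟨y ^ j • m, pow_smul_mem 𝒜 ℳ hy hm j, 0, j, by simp, by rw [pow_zero, one_smul]⟩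

variable (ℳ)

include 𝒜 hy in
/-- Normal forms and their inverses. -/
theorem exists_shift_maps (hD : 0 < D) (hreg : IsSMulRegular M y) {n₀ : ℤ}
    (hdiv : ∀ n ≥ n₀, Good ℳ D y n) :
    ∃ (η : M →ₗ[k] M) (θ : ℤ → (M →ₗ[k] M)),
      (∀ m, η (y • m) = η m) ∧
      (∀ n v, θ n v ∈ ℳ n) ∧
      (∀ n, Good ℳ D y n → ∀ a ∈ ℳ n, θ n (η a) = a) ∧
      (∀ n, Good ℳ D y n → Good ℳ D y (n + D) → ∀ v, θ (n + D) v = y • θ n v) ∧
      (∀ n, ∀ a ∈ ℳ n, η a ∈ ⨆ c ∈ Finset.Ico n₀ (n₀ + D), Submodule.span k (ℳ c : Set M)) := by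
  classical
  have hsm := fun (c : k) (i : ℤ) (a : M) (ha : a ∈ ℳ i) => SegreDim.smul_mem_piece 𝒜 ℳ c ha
  let rep : ℤ → ℤ := fun i => n₀ + (i - n₀) % (D : ℤ)
  have hrep : ∀ i, n₀ ≤ rep i ∧ rep i < n₀ + D := fun i => by
    have h1 := Int.emod_nonneg (i - n₀) (show (D : ℤ) ≠ 0 by exact_mod_cast hD.ne')
    have h2 := Int.emod_lt_of_pos (i - n₀) (show (0 : ℤ) < D by exact_mod_cast hD)
    simp only [rep]; constructor <;> linarith
  have hrepdvd : ∀ i, (D : ℤ) ∣ i - rep i := fun i =>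
    ⟨(i - n₀) / (D : ℤ), by simp only [rep]; linarith [Int.emod_add_mul_ediv (i - n₀) (D : ℤ)]⟩
  let sh : ℤ → ℤ → M → M := fun n i m => if h : ∃ x, Rel ℳ D y n i x m then h.choose else 0
  have sh_spec : ∀ n i m x, Rel ℳ D y n i x m → sh n i m = x := fun n i m x hx => by
    simp only [sh, dif_pos (show ∃ x, Rel ℳ D y n i x m from ⟨x, hx⟩)]
    exact Rel.unique hD hreg (Classical.choose_spec (show ∃ x, Rel ℳ D y n i x m from ⟨x, hx⟩)) hx
  have rel_add : ∀ {n i : ℤ} {x x' m m' : M}, Rel ℳ D y n i x m → Rel ℳ D y n i x' m' →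
      Rel ℳ D y n i (x + x') (m + m') := by
    rintro n i x x' m m' ⟨hx, a, b, e, h⟩ ⟨hx', a', b', e', h'⟩
    have hab : a + b' = a' + b := by
      have : ((a + b' : ℕ) : ℤ) * D = ((a' + b : ℕ) : ℤ) * D := by push_cast; linarith
      exact_mod_cast mul_right_cancel₀ (by exact_mod_cast hD.ne') this
    refine ⟨add_mem hx hx', a + a', b + a', by push_cast; linarith, ?_⟩
    have h2 : y ^ (a + a') • x' = y ^ (b + a') • m' := by
      rw [pow_add, mul_smul, h', ← mul_smul, ← pow_add, show a + b' = b + a' by omega]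
    rw [smul_add, smul_add, h2, show y ^ (a + a') • x = y ^ (b + a') • m by
      rw [add_comm a, add_comm b, pow_add, pow_add, mul_smul, mul_smul, h]]
  have rel_smul : ∀ {n i : ℤ} {x m : M} (c : k), Rel ℳ D y n i x m → Rel ℳ D y n i (c • x) (c • m) := by
    rintro n i x m c ⟨hx, a, b, e, h⟩
    exact ⟨hsm c n x hx, a, b, e, by rw [smul_comm, h, smul_comm]⟩
  have sh_rel : ∀ {n i : ℤ} {m : M}, Good ℳ D y n → (D : ℤ) ∣ i - n → m ∈ ℳ i →
      Rel ℳ D y n i (sh n i m) m := fun hg hd hm => by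
    obtain ⟨x, hx⟩ := exists_rel 𝒜 hy hD hg hd hm
    rw [sh_spec _ _ _ x hx]; exact hx
  have hgr : ∀ i, Good ℳ D y (rep i) := fun i => hdiv _ (hrep i).1
  obtain ⟨η, hη⟩ := exists_liftPieces ℳ hsm (fun i a => sh (rep i) i a)
    (fun i a b ha hb => sh_spec _ _ _ _
      (rel_add (sh_rel (hgr i) (hrepdvd i) ha) (sh_rel (hgr i) (hrepdvd i) hb)))
    (fun c i a ha => sh_spec _ _ _ _ (rel_smul c (sh_rel (hgr i) (hrepdvd i) ha)))
  let C : ℤ → ℤ → Prop := fun n i => Good ℳ D y n ∧ (D : ℤ) ∣ i - n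
  have hθex : ∀ n, ∃ θ : M →ₗ[k] M, ∀ i a, a ∈ ℳ i → θ a = if C n i then sh n i a else 0 := fun n => by
    refine exists_liftPieces ℳ hsm (fun i a => if C n i then sh n i a else 0) (fun i a b ha hb => ?_)
      (fun c i a ha => ?_)
    · by_cases h : C n i
      · simp only [if_pos h]
        exact sh_spec _ _ _ _ (rel_add (sh_rel h.1 h.2 ha) (sh_rel h.1 h.2 hb))
      · simp [if_neg h]
    · by_cases h : C n i
      · simp only [if_pos h]
        exact sh_spec _ _ _ _ (rel_smul c (sh_rel h.1 h.2 ha))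
      · simp [if_neg h]
  choose θ hθ using hθex
  refine ⟨η, θ, ?_, ?_, ?_, ?_, ?_⟩
  · intro m
    induction m using GrLib.induction ℳ with
    | zero => simp
    | hom i a ha =>
      have hya : y • a ∈ ℳ (i + D) := by simpa using pow_smul_mem 𝒜 ℳ hy ha 1
      rw [hη _ _ hya, hη i a ha]
      have he : rep (i + D) = rep i := by
        simp only [rep]; rw [add_sub_right_comm, Int.add_emod_right]
      rw [he]
      obtain ⟨hx, p, q, e, h⟩ := sh_rel (hgr i) (hrepdvd i) ha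
      refine sh_spec _ _ _ _ ⟨hx, p + 1, q, by push_cast; linarith, ?_⟩
      rw [pow_succ', mul_smul, h, smul_comm]
    | add a b ha hb => rw [smul_add, map_add, ha, hb, map_add]
  · intro n v
    induction v using GrLib.induction ℳ with
    | zero => rw [map_zero]; exact zero_mem _
    | hom i a ha =>
      rw [hθ n i a ha]
      split_ifs with h
      · exact (sh_rel h.1 h.2 ha).1
      · exact zero_mem _
    | add a b ha hb => rw [map_add]; exact add_mem ha hb
  · intro n hn a ha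
    rw [hη n a ha]
    obtain ⟨hx, p, q, e, h⟩ := sh_rel (hgr n) (hrepdvd n) ha
    have hd : (D : ℤ) ∣ rep n - n := (dvd_sub_comm).mp (hrepdvd n)
    rw [hθ n _ _ hx, if_pos ⟨hn, hd⟩]
    exact sh_spec _ _ _ _ ⟨ha, q, p, e.symm, h.symm⟩
  · intro n hn hnD v
    induction v using GrLib.induction ℳ with
    | zero => simp
    | hom i a ha =>
      rw [hθ _ i a ha, hθ n i a ha]
      by_cases h : (D : ℤ) ∣ i - n
      · have h' : (D : ℤ) ∣ i - (n + D) := by
          obtain ⟨q, hq⟩ := h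
          exact ⟨q - 1, by linarith⟩
        rw [if_pos ⟨hnD, h'⟩, if_pos ⟨hn, h⟩]
        obtain ⟨hx, p, q, e, he⟩ := sh_rel hn h ha
        refine sh_spec _ _ _ _ ⟨by simpa using pow_smul_mem 𝒜 ℳ hy hx 1, p, q + 1, by push_cast; linarith, ?_⟩
        rw [smul_comm, he, pow_succ', mul_smul]
      · have h' : ¬ (D : ℤ) ∣ i - (n + D) := fun hc => h (by
          obtain ⟨q, hq⟩ := hc
          exact ⟨q + 1, by linarith⟩)
        rw [if_neg (fun hc => h' hc.2), if_neg (fun hc => h hc.2), smul_zero]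
    | add a b ha hb => rw [map_add, ha, hb, map_add, smul_add]
  · intro n a ha
    rw [hη n a ha]
    exact Submodule.mem_iSup_of_mem (rep n) (Submodule.mem_iSup_of_mem (Finset.mem_Ico.mpr (hrep n))
      (Submodule.subset_span (sh_rel (hgr n) (hrepdvd n) ha).1))

end Groth.Agent.SegreOne
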