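import Mathlib
import Groth.Agent.SegreOne.Shift
import Groth.Agent.GrLib.LES

/-! The first local cohomology module of a module of dimension one. -/

set_option autoImplicit false
universe u

open DirectSum

namespace Groth.Agent.SegreOne

variable {k : Type u} [Field k] {R : Type u} [CommRing R] [Algebra k R] (𝒜 : ℤ → Submodule k R)
  [GradedAlgebra 𝒜] [Algebra.FiniteType k R]
  {M : Type u} [AddCommGroup M] [Module R M] [Module k M] [IsScalarTower k R M]
  {τ : Type u} [SetLike τ M] [AddSubgroupClass τ M] (ℳ : ℤ → τ) [DirectSum.Decomposition ℳ]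
  [SetLike.GradedSMul 𝒜 ℳ] [Module.Finite R M]

open GrLib in
theorem Hcomp_one_eq_bot_iff {D : ℕ} {y : R} (hD : 0 < D) (hy : y ∈ 𝒜 (D : ℤ)) (hyreg : IsSMulRegular M y)
    (hyint : ((Ideal.Quotient.mkₐ k (Module.annihilator R M)).comp
      (MvPolynomial.aeval fun _ : Fin 1 => y)).toRingHom.IsIntegral)
    (mR : HomogeneousIdeal 𝒜) (hmR : mR.toIdeal = Ideal.span (⋃ n ∈ Set.Ioi (0 : ℤ), (𝒜 n : Set R)))
    (E : GrLC.StarInjRes 𝒜 ℳ) (n : ℤ) : E.Hcomp mR 1 n = ⊥ ↔ Good ℳ D y n := by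
  classical
  haveI : IsNoetherianRing R := Algebra.FiniteType.isNoetherianRing k R
  obtain ⟨n₀, hdiv⟩ := exists_divisible 𝒜 ℳ hy hD hyint
  have hyR : y ∈ mR.toIdeal := by
    rw [hmR]
    exact Ideal.subset_span (Set.mem_iUnion₂.mpr ⟨(D : ℤ), Set.mem_Ioi.mpr (by exact_mod_cast hD), hy⟩)
  have hgamM : ∀ m ∈ GrLC.gam mR.toIdeal M, m = 0 := by
    rintro m ⟨N, hN⟩
    exact (hyreg.pow N) (by simpa using hN _ (Ideal.pow_mem_pow hyR N))
  -- high multiples of `x` are divisible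
  have htors : ∀ (j : ℕ) (x : M), ∃ N : ℕ, ∀ r ∈ mR.toIdeal ^ N, ∃ m, r • x = y ^ j • m := by
    intro j
    let Y := LinearMap.range ((y ^ j) • LinearMap.id : M →ₗ[R] M)
    suffices ∀ x, Submodule.Quotient.mk x ∈ GrLC.gam mR.toIdeal (M ⧸ Y) by
      intro x
      obtain ⟨N, hN⟩ := this x
      refine ⟨N, fun r hr => ?_⟩
      have h := hN r hr
      rw [← Submodule.Quotient.mk_smul, Submodule.Quotient.mk_eq_zero] at h
      obtain ⟨m, hm⟩ := h
      exact ⟨m, hm.symm⟩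
    intro x
    induction x using GrLib.induction ℳ with
    | zero => exact zero_mem (GrLC.gam mR.toIdeal (M ⧸ Y))
    | add a b ha hb => exact add_mem ha hb
    | hom i x hx =>
      let Q : Ideal R := Submodule.comap (LinearMap.toSpanSingleton R M x) Y
      have hQ : mR.toIdeal ≤ Q.radical := by
        rw [hmR, Ideal.span_le]
        intro a ha
        simp only [Set.mem_iUnion, Set.mem_Ioi] at ha
        obtain ⟨c, hc, hac⟩ := ha
        let C : ℕ := (n₀ + j * D - i).toNat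
        refine ⟨C, ?_⟩
        have hpow := SetLike.pow_mem_graded (A := 𝒜) C hac
        rw [nsmul_eq_mul] at hpow
        have hmem := GrLib.smul_mem (𝒜 := 𝒜) (ℳ := ℳ) hpow hx
        have hge : n₀ ≤ (C : ℤ) * c + i - j * D := by
          have h1 : n₀ + j * D - i ≤ (C : ℤ) := Int.self_le_toNat _
          have h2 : (C : ℤ) ≤ (C : ℤ) * c := le_mul_of_one_le_right (Int.natCast_nonneg C) (by omega)
          omega
        obtain ⟨x', -, hx'⟩ := hdiv _ hge j (a ^ C • x) (by rw [sub_add_cancel]; exact hmem)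
        exact ⟨x', hx'.symm⟩
      obtain ⟨N, hN⟩ := Ideal.exists_pow_le_of_le_radical_of_fg hQ (IsNoetherian.noetherian _)
      exact ⟨N, fun r hr => (Submodule.Quotient.mk_eq_zero Y).mpr (hN hr)⟩
  -- the long exact sequence of multiplication by `y ^ j`
  have key : ∀ j : ℕ, ∃ (G : Type u) (_ : AddCommGroup G) (_ : Module R G) (γ : ℤ → AddSubgroup G)
      (e : M →ₗ[R] G) (δ : G →ₗ[R] E.H mR 1),
      (∀ g m, m ∈ ℳ g → e m ∈ γ g) ∧ (∀ g m, m ∈ γ g → δ m ∈ E.Hgr mR 1 (g + -((j * D : ℕ) : ℤ))) ∧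
      (∀ m, δ (e m) = 0 → ∃ m', m = y ^ j • m') ∧ (∀ m', δ (e (y ^ j • m')) = 0) ∧
      (∀ h, y ^ j • h = 0 → ∃ m, δ (e m) = h) := by
    intro j
    have hyj : y ^ j ∈ 𝒜 (((j * D : ℕ)) : ℤ) := by
      have := SetLike.pow_mem_graded (A := 𝒜) j hy
      simpa [nsmul_eq_mul] using this
    let f : M →ₗ[R] M := (y ^ j) • LinearMap.id
    have hf : GrLC.IsGrHomDeg ℳ ℳ f (((j * D : ℕ)) : ℤ) := smul_id_grHomDeg hyj
    let Y := LinearMap.range f
    have hYh : Y.IsHomogeneous ℳ := isHomogeneous_range_deg hf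
    letI := qDecomp ℳ hYh
    let F : GrLC.StarInjRes 𝒜 (qGr ℳ Y) := starRes 𝒜 (qGr ℳ Y)
    have hfi : Function.Injective f := fun a b h => (hyreg.pow j) h
    have hfg : Function.Exact f Y.mkQ := LinearMap.exact_map_mkQ_range f
    obtain ⟨δ, hδ, -, hex⟩ := exists_les_deg (E := E) (G := F) E mR hf hfi (mkQ_grHom Y)
      (Submodule.mkQ_surjective Y) hfg
    have hcoc : ∀ m : M, F.ε (Y.mkQ m) ∈ F.cocyc mR 0 := fun m => by
      refine ⟨map_gam_le F.ε (Submodule.mem_map_of_mem ?_), d_comp_ε F _⟩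
      obtain ⟨N, hN⟩ := htors j m
      refine ⟨N, fun r hr => ?_⟩
      obtain ⟨m', hm'⟩ := hN r hr
      rw [← map_smul, Submodule.mkQ_apply, Submodule.Quotient.mk_eq_zero, hm']
      exact ⟨m', rfl⟩
    let e : M →ₗ[R] F.H mR 0 := (F.toH mR 0).comp
      ((F.ε.comp Y.mkQ).codRestrict (F.cocyc mR 0) hcoc)
    have hzero : ∀ w : E.H mR 0, w = 0 := by
      intro w
      obtain ⟨⟨z, hz⟩, rfl⟩ := GrLib.toH_surjective (E := E) mR 0 w
      obtain ⟨m, rfl⟩ := exists_ε_eq E (x := z) hz.2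
      obtain ⟨N, hN⟩ := hz.1
      have hm0 : m = 0 := hgamM m ⟨N, fun r hr => E.ε_injective (by rw [map_smul, hN r hr, map_zero])⟩
      subst hm0
      rw [GrLib.toH_eq_zero]
      simp
    refine ⟨F.H mR 0, inferInstance, inferInstance, F.Hgr mR 0, e, δ 0, fun g m hm => ?_, hδ 0,
      fun m hm => ?_, fun m' => ?_, fun h hh => ?_⟩
    · exact ⟨⟨_, hcoc m⟩, F.ε_grHom g _ (mkQ_grHom Y g m hm), rfl⟩
    · obtain ⟨w, hw⟩ := ((hex 0).2.1 (e m)).mp hm
      rw [hzero w, map_zero] at hw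
      have h1 := (GrLib.toH_eq_zero (E := F) mR).mp hw.symm
      have h2 : F.ε (Y.mkQ m) = 0 := (Submodule.mem_bot R).mp h1
      rw [← map_zero F.ε] at h2
      obtain ⟨m', hm'⟩ := (Submodule.Quotient.mk_eq_zero Y).mp (F.ε_injective h2)
      exact ⟨m', hm'.symm⟩
    · have h1 : e (y ^ j • m') = 0 := by
        refine (GrLib.toH_eq_zero (E := F) mR).mpr ?_
        show F.ε (Y.mkQ (y ^ j • m')) ∈ (⊥ : Submodule R _)
        have h0 : (Submodule.Quotient.mk (y ^ j • m') : M ⧸ Y) = 0 :=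
          (Submodule.Quotient.mk_eq_zero Y).mpr ⟨m', rfl⟩
        rw [Submodule.mem_bot, Submodule.mkQ_apply, h0, map_zero]
      rw [h1, map_zero]
    · obtain ⟨w, hw⟩ := ((hex 0).2.2 h).mp (by rw [mapH_smul_id mR hyj hf]; exact hh)
      obtain ⟨⟨z, hz⟩, rfl⟩ := GrLib.toH_surjective (E := F) mR 0 w
      obtain ⟨q, rfl⟩ := exists_ε_eq F (x := z) hz.2
      obtain ⟨m, rfl⟩ := Submodule.mkQ_surjective Y q
      exact ⟨m, hw⟩
  constructor
  · intro hbot j x hx
    obtain ⟨G, _, _, γ, e, δ, he, hδ, hker, -, -⟩ := key j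
    have h1 := hδ _ _ (he _ x hx)
    rw [show n + (j : ℤ) * D + -((j * D : ℕ) : ℤ) = n by push_cast; ring] at h1
    have h2 : δ (e x) ∈ E.Hcomp mR 1 n := h1
    rw [hbot, Submodule.mem_bot] at h2
    obtain ⟨m', hm'⟩ := hker x h2
    refine ⟨proj ℳ n m', proj_mem ℳ n m', ?_⟩
    have hyj : y ^ j ∈ 𝒜 (((j * D : ℕ)) : ℤ) := by
      have := SetLike.pow_mem_graded (A := 𝒜) j hy
      simpa [nsmul_eq_mul] using this
    have h3 := congrArg (proj ℳ (n + j * D)) hm'
    rw [proj_of_mem hx, proj_smul' (𝒜 := 𝒜) hyj,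
      show n + (j : ℤ) * D - ((j * D : ℕ) : ℤ) = n by push_cast; ring] at h3
    exact h3
  · intro hgood
    rw [eq_bot_iff]
    intro h hh
    rw [Submodule.mem_bot]
    obtain ⟨z, hzn, rfl⟩ := hh
    obtain ⟨N, hN⟩ := z.2.1
    obtain ⟨G, _, _, γ, e, δ, he, hδ, -, hkill, hsurj⟩ := key N
    have hyz : y ^ N • E.toH mR 1 z = 0 := by
      rw [← map_smul]
      have : y ^ N • z = 0 := Subtype.ext (hN _ (Ideal.pow_mem_pow hyR N))
      rw [this, map_zero]
    obtain ⟨m, hm⟩ := hsurj _ hyz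
    letI := Hdecomp (E := E) mR 1
    have hproj : proj (E.Hgr mR 1) n (E.toH mR 1 z) = E.toH mR 1 z := proj_of_mem ⟨z, hzn, rfl⟩
    have hcomm : ∀ m, proj (E.Hgr mR 1) n (δ (e m)) = δ (e (proj ℳ (n + ((N * D : ℕ) : ℤ)) m)) := by
      intro m
      induction m using GrLib.induction ℳ with
      | zero => simp
      | hom i a ha =>
        have h1 := hδ _ _ (he i a ha)
        by_cases hi : i = n + ((N * D : ℕ) : ℤ)
        · subst hi
          rw [add_neg_cancel_right] at h1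
          rw [proj_of_mem ha, proj_of_mem h1]
        · rw [proj_of_mem_ne ha hi, map_zero, map_zero, proj_of_mem_ne h1 (by omega)]
      | add a b ha hb => simp [map_add, ha, hb]
    rw [← hproj, ← hm, hcomm]
    obtain ⟨x', -, hx'⟩ := hgood N (proj ℳ (n + ((N * D : ℕ) : ℤ)) m) (by
      have h := proj_mem ℳ (n + ((N * D : ℕ) : ℤ)) m
      rwa [Nat.cast_mul] at h ⊢)
    rw [hx', hkill]

end Groth.Agent.SegreOne
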