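import Mathlib
import Groth.Agent.SegreOne.Shift
import Groth.Agent.SegreDim.CMFaithful
import Groth.Agent.SegreDim.DimOneSegre
import Groth.Agent.EGA41Lib.CMParameters

/-! Segre products with a Cohen–Macaulay module of dimension one. -/

set_option autoImplicit false
set_option linter.unusedSectionVars false
universe u

open DirectSum TensorProduct

namespace Groth.Agent.SegreOne

variable {k : Type u} [Field k]

theorem tensorMap_injective {M M' N N' : Type u} [AddCommGroup M] [Module k M] [AddCommGroup M'] [Module k M']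
    [AddCommGroup N] [Module k N] [AddCommGroup N'] [Module k N'] {f : M →ₗ[k] M'} {g : N →ₗ[k] N'}
    (hf : Function.Injective f) (hg : Function.Injective g) : Function.Injective (TensorProduct.map f g) := by
  rw [← LinearMap.rTensor_comp_lTensor, LinearMap.coe_comp]
  exact (Module.Flat.rTensor_preserves_injective_linearMap f hf).comp
    (Module.Flat.lTensor_preserves_injective_linearMap g hg)

variable {R : Type u} [CommRing R] [Algebra k R] (𝒜 : ℤ → Submodule k R) [GradedAlgebra 𝒜]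
  (hposR : ∀ n : ℤ, n < 0 → 𝒜 n = ⊥) (h0R : 𝒜 0 = Submodule.span k {(1 : R)}) [Algebra.FiniteType k R]
  {S : Type u} [CommRing S] [Algebra k S] (ℬ : ℤ → Submodule k S) [GradedAlgebra ℬ]
  (hposS : ∀ n : ℤ, n < 0 → ℬ n = ⊥) (h0S : ℬ 0 = Submodule.span k {(1 : S)}) [Algebra.FiniteType k S]
  {T : Type u} [CommRing T] [Algebra k T] (𝒯 : ℤ → Submodule k T) [GradedAlgebra 𝒯]
  (ψ : T →ₐ[k] R ⊗[k] S) (hψ : Function.Injective ψ)
  (hdegT : ∀ n : ℤ, (𝒯 n).map ψ.toLinearMap = GrSeg.segrePiece k 𝒜 ℬ n)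
  {M : Type u} [AddCommGroup M] [Module R M] [Module k M] [IsScalarTower k R M]
  {τ : Type u} [SetLike τ M] [AddSubgroupClass τ M] (ℳ : ℤ → τ) [DirectSum.Decomposition ℳ]
  [SetLike.GradedSMul 𝒜 ℳ] [Module.Finite R M]
  {N : Type u} [AddCommGroup N] [Module S N] [Module k N] [IsScalarTower k S N]
  {τ' : Type u} [SetLike τ' N] [AddSubgroupClass τ' N] (𝒩 : ℤ → τ') [DirectSum.Decomposition 𝒩]
  [SetLike.GradedSMul ℬ 𝒩] [Module.Finite S N]
  {P : Type u} [AddCommGroup P] [Module T P] [Module k P] [IsScalarTower k T P]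
  {τQ : Type u} [SetLike τQ P] [AddSubgroupClass τQ P] (𝒬 : ℤ → τQ) [DirectSum.Decomposition 𝒬]
  (φ : P →ₗ[k] M ⊗[k] N) (hφ : Function.Injective φ)
  (hdegP : ∀ n : ℤ, φ '' (𝒬 n : Set P) = (GrSeg.segrePiece k ℳ 𝒩 n : Set (M ⊗[k] N)))
  (hsmul : ∀ (t : T) (p : P), φ (t • p) = GrSeg.act k R S M N (ψ t) (φ p))

theorem act_mem_piece {a n : ℤ} {z : R ⊗[k] S} (hz : z ∈ GrSeg.segrePiece k 𝒜 ℬ a) {w : M ⊗[k] N}
    (hw : w ∈ GrSeg.segrePiece k ℳ 𝒩 n) : GrSeg.act k R S M N z w ∈ GrSeg.segrePiece k ℳ 𝒩 (a + n) := by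
  induction hz using Submodule.span_induction with
  | mem z hz =>
    obtain ⟨r, hr, s, hs, rfl⟩ := hz
    induction hw using Submodule.span_induction with
    | mem w hw =>
      obtain ⟨x, hx, b, hb, rfl⟩ := hw
      rw [GrSeg.act_tmul]
      exact Submodule.subset_span ⟨_, SetLike.GradedSMul.smul_mem hr hx, _, SetLike.GradedSMul.smul_mem hs hb, rfl⟩
    | zero => simp
    | add p q _ _ hp hq => rw [map_add]; exact add_mem hp hq
    | smul c p _ hp => rw [map_smul]; exact Submodule.smul_mem _ c hp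
  | zero => simp
  | add p q _ _ hp hq => rw [map_add, LinearMap.add_apply]; exact add_mem hp hq
  | smul c p _ hp => rw [map_smul, LinearMap.smul_apply]; exact Submodule.smul_mem _ c hp

include hdegT hdegP hsmul hφ in
theorem gradedSMul : SetLike.GradedSMul 𝒯 𝒬 := ⟨fun {a n t p} ht hp => by
  have h1 : φ (t • p) ∈ (GrSeg.segrePiece k ℳ 𝒩 (a + n) : Set (M ⊗[k] N)) := by
    rw [hsmul]
    refine act_mem_piece 𝒜 ℬ ℳ 𝒩 ?_ ((hdegP n).subset ⟨p, hp, rfl⟩)
    rw [← hdegT]; exact ⟨t, ht, rfl⟩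
  rw [← hdegP] at h1
  obtain ⟨q, hq, hqe⟩ := h1
  exact hφ hqe ▸ hq⟩

include hposR h0R hposS h0S ℳ 𝒩 in
/-- Parameters of one degree for the two factors. -/
theorem exists_setup (s : ℕ) (hdM : Module.supportDim R M = 1) (hdN : Module.supportDim S N = s)
    (hMcm : ∀ (q : Ideal R) [q.IsPrime], Subsingleton (LocalizedModule q.primeCompl M) ∨
      LocCoh.IsCohenMacaulayModule (Localization.AtPrime q) (LocalizedModule q.primeCompl M))
    (hNcm : ∀ (q : Ideal S) [q.IsPrime], Subsingleton (LocalizedModule q.primeCompl N) ∨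
      LocCoh.IsCohenMacaulayModule (Localization.AtPrime q) (LocalizedModule q.primeCompl N)) :
    ∃ (D : ℕ) (y : R) (z : Fin s → S), 0 < D ∧ y ∈ 𝒜 (D : ℤ) ∧ (∀ i, z i ∈ ℬ (D : ℤ)) ∧
      IsSMulRegular M y ∧ (∀ i, IsSMulRegular N (z i)) ∧
      ((Ideal.Quotient.mkₐ k (Module.annihilator R M)).comp
        (MvPolynomial.aeval fun _ : Fin 1 => y)).toRingHom.IsIntegral ∧
      ((Ideal.Quotient.mkₐ k (Module.annihilator S N)).comp (MvPolynomial.aeval z)).toRingHom.IsIntegral := by
  have hr' : ringKrullDim (R ⧸ Module.annihilator R M) = ((1 : ℕ) : WithBot ℕ∞) := by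
    rw [← Module.supportDim_eq_ringKrullDim_quotient_annihilator, hdM, Nat.cast_one]
  have hs' : ringKrullDim (S ⧸ Module.annihilator S N) = (s : WithBot ℕ∞) := by
    rw [← Module.supportDim_eq_ringKrullDim_quotient_annihilator, hdN]
  obtain ⟨Dy, y₁, hDy, hy₁, hy₁i, hy₁n⟩ :=
    SegreDim.exists_module_params 𝒜 hposR h0R 1 hr' (SegreDim.annihilator_isHomogeneous 𝒜 ℳ)
  obtain ⟨Dz, z₁, hDz, hz₁, hz₁i, hz₁n⟩ :=
    SegreDim.exists_module_params ℬ hposS h0S s hs' (SegreDim.annihilator_isHomogeneous ℬ 𝒩)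
  obtain ⟨-, hyn⟩ := SegreDim.params_pow (Ideal.Quotient.mkₐ k (Module.annihilator R M)) y₁ Dz hDz hy₁i hy₁n
  obtain ⟨-, hzn⟩ := SegreDim.params_pow (Ideal.Quotient.mkₐ k (Module.annihilator S N)) z₁ Dy hDy hz₁i hz₁n
  have hyfun : (fun i => y₁ i ^ Dz) = fun _ : Fin 1 => y₁ 0 ^ Dz := funext fun i => by rw [Subsingleton.elim i 0]
  rw [hyfun] at hyn
  refine ⟨Dy * Dz, y₁ 0 ^ Dz, fun i => z₁ i ^ Dy, Nat.mul_pos hDy hDz, ?_, fun i => ?_, ?_, fun i => ?_, hyn, hzn⟩
  · have := SetLike.pow_mem_graded (A := 𝒜) Dz (hy₁ 0)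
    rw [nsmul_eq_mul, mul_comm] at this
    simpa using this
  · have := SetLike.pow_mem_graded (A := ℬ) Dy (hz₁ i)
    simpa [nsmul_eq_mul] using this
  · refine isSMulRegular_iff_right_eq_zero_of_smul.mpr fun m hm => ?_
    refine SegreDim.eq_zero_of_aeval_smul (k := k) (fun _ : Fin 1 => y₁ 0 ^ Dz) (fun p hp => ?_) hyn
      (q := MvPolynomial.X 0) (MvPolynomial.X_ne_zero _) (by rw [MvPolynomial.aeval_X]; exact hm)
    rw [SegreDim.ringKrullDim_quotient_eq_supportDim_of_cm 𝒜 hposR h0R ℳ hMcm hp, hdM, Nat.cast_one]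
  · refine isSMulRegular_iff_right_eq_zero_of_smul.mpr fun m hm => ?_
    refine SegreDim.eq_zero_of_aeval_smul (k := k) (fun i => z₁ i ^ Dy) (fun p hp => ?_) hzn
      (q := MvPolynomial.X i) (MvPolynomial.X_ne_zero _) (by rw [MvPolynomial.aeval_X]; exact hm)
    rw [SegreDim.ringKrullDim_quotient_eq_supportDim_of_cm ℬ hposS h0S 𝒩 hNcm hp, hdN]

theorem map_smul_injective {y : R} {z : S} (hy : IsSMulRegular M y) (hz : IsSMulRegular N z) :
    Function.Injective (GrSeg.act k R S M N (y ⊗ₜ[k] z)) := by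
  have e : GrSeg.act k R S M N (y ⊗ₜ[k] z) =
      TensorProduct.map (Algebra.lsmul k k M y) (Algebra.lsmul k k N z) :=
    TensorProduct.ext' fun a b => by rw [GrSeg.act_tmul, TensorProduct.map_tmul]; rfl
  rw [e]
  exact tensorMap_injective hy hz

include hposS h0S hψ hdegT hφ hdegP hsmul in
/-- Cohen–Macaulayness of the Segre product when the pieces of `M` are stationary where `N` lives, or in
dimension one. -/
theorem cm_segre (s : ℕ) (hdN : Module.supportDim S N = s)
    (hNcm : ∀ (q : Ideal S) [q.IsPrime], Subsingleton (LocalizedModule q.primeCompl N) ∨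
      LocCoh.IsCohenMacaulayModule (Localization.AtPrime q) (LocalizedModule q.primeCompl N))
    {D : ℕ} {y : R} {z : Fin s → S} (hD : 0 < D) (hy : y ∈ 𝒜 (D : ℤ)) (hz : ∀ i, z i ∈ ℬ (D : ℤ))
    (hyreg : IsSMulRegular M y) (hzreg : ∀ i, IsSMulRegular N (z i))
    (hyint : ((Ideal.Quotient.mkₐ k (Module.annihilator R M)).comp
        (MvPolynomial.aeval fun _ : Fin 1 => y)).toRingHom.IsIntegral)
    (hzint : ((Ideal.Quotient.mkₐ k (Module.annihilator S N)).comp (MvPolynomial.aeval z)).toRingHom.IsIntegral)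
    (hcond : (∀ n : ℤ, (∃ b ∈ 𝒩 n, b ≠ 0) → Good ℳ D y n) ∨ s = 1)
    (q : Ideal T) [q.IsPrime] : Subsingleton (LocalizedModule q.primeCompl P) ∨
      LocCoh.IsCohenMacaulayModule (Localization.AtPrime q) (LocalizedModule q.primeCompl P) := by
  classical
  haveI : IsNoetherianRing T := by
    haveI := SegreDim.isNoetherian_segre 𝒜 𝒜 ℬ ℬ 𝒯 ψ hdegT 𝒯 ψ.toLinearMap hψ
      (fun n => by rw [← hdegT n, Submodule.map_coe]) (fun t p => by
        rw [SegreDim.act_eq_mul]; exact map_mul ψ t p)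
    exact isNoetherianRing_iff.mpr this
  let B := MvPolynomial (Fin s) k
  -- lifts of the parameters
  have hlift : ∀ i, ∃ t ∈ 𝒯 (D : ℤ), ψ t = y ⊗ₜ[k] z i := fun i => by
    have : y ⊗ₜ[k] z i ∈ (𝒯 (D : ℤ)).map ψ.toLinearMap := by
      rw [hdegT]; exact Submodule.subset_span ⟨y, hy, z i, hz i, rfl⟩
    exact this
  choose t ht htψ using hlift
  letI algT : Algebra B T := (MvPolynomial.aeval (R := k) t).toRingHom.toAlgebra
  letI modP : Module B P := Module.compHom P (MvPolynomial.aeval (R := k) t).toRingHom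
  haveI : IsScalarTower B T P := IsScalarTower.of_algebraMap_smul fun a m => rfl
  letI modN : Module B N := Module.compHom N (MvPolynomial.aeval (R := k) z).toRingHom
  haveI : IsScalarTower k B N := IsScalarTower.of_algebraMap_smul fun c m => by
    show MvPolynomial.aeval z (algebraMap k B c) • m = c • m
    rw [AlgHom.commutes, algebraMap_smul]
  haveI : SMulCommClass B k N := ⟨fun a c m => by
    show MvPolynomial.aeval z a • c • m = c • MvPolynomial.aeval z a • m
    rw [smul_comm]⟩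
  haveI : Module.Finite B N := finite_of_integral z hzint
  haveI : Module.Projective B N := projective_of_cm z hzint hNcm fun Q hQ => by
    rw [SegreDim.ringKrullDim_quotient_eq_supportDim_of_cm ℬ hposS h0S 𝒩 hNcm hQ, hdN]
  -- normal forms
  obtain ⟨G, -, hspan⟩ := exists_generators 𝒜 ℳ hy hyint
  obtain ⟨n₀, hdiv⟩ := exists_divisible 𝒜 ℳ hy hD hyint
  obtain ⟨η, θ, hηy, hθmem, hθη, hθD, hηU⟩ := exists_shift_maps 𝒜 ℳ hy hD hyreg hdiv
  let U : Submodule k M := ⨆ c ∈ Finset.Ico n₀ (n₀ + D), Submodule.span k (ℳ c : Set M)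
  have hUfin : Module.Finite k U := by
    refine Module.Finite.iff_fg.mpr (Submodule.fg_biSup _ _ fun c _ => ?_)
    let W : Set M := {w | ∃ g ∈ G, ∃ j : ℕ, g.1 + j * D = c ∧ w = y ^ j • g.2}
    have hW : W.Finite := by
      refine (G.finite_toSet.image (fun g => y ^ ((c - g.1) / (D : ℤ)).toNat • g.2)).subset ?_
      rintro _ ⟨g, hg, j, hj, rfl⟩
      refine ⟨g, hg, ?_⟩
      dsimp only
      rw [show c - g.1 = (j : ℤ) * D by linarith, Int.mul_ediv_cancel _ (by exact_mod_cast hD.ne')]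
      simp
    haveI : Module.Finite k (Submodule.span k W) := Module.Finite.span_of_finite k hW
    exact Submodule.FG.of_le (Module.Finite.iff_fg.mp this) (Submodule.span_le.mpr fun x hx => hspan c x hx)
  have hηU' : ∀ m, η m ∈ U := fun m => by
    induction m using GrLib.induction ℳ with
    | zero => rw [map_zero]; exact zero_mem _
    | hom i a ha => exact hηU i a ha
    | add a b ha hb => rw [map_add]; exact add_mem ha hb
  let η' : M →ₗ[k] U := η.codRestrict U hηU'
  let Φ₀ : M ⊗[k] N →ₗ[k] N ⊗[k] U :=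
    (TensorProduct.map LinearMap.id η').comp (TensorProduct.comm k M N).toLinearMap
  have hΦ₀ : ∀ (a : M) (b : N), Φ₀ (a ⊗ₜ[k] b) = b ⊗ₜ[k] η' a := fun _ _ => rfl
  have hkey : ∀ i (w : M ⊗[k] N),
      Φ₀ (GrSeg.act k R S M N (y ⊗ₜ[k] z i) w) = (MvPolynomial.X i : B) • Φ₀ w := by
    intro i w
    induction w using TensorProduct.induction_on with
    | zero => simp
    | add p q hp hq => rw [map_add, map_add, map_add, hp, hq, smul_add]
    | tmul a b =>
      rw [GrSeg.act_tmul, hΦ₀, hΦ₀, TensorProduct.smul_tmul']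
      congr 1
      · show z i • b = MvPolynomial.aeval z (MvPolynomial.X i) • b
        rw [MvPolynomial.aeval_X]
      · exact Subtype.ext (hηy a)
  have hBC : ∀ (c : k) (p : P), (MvPolynomial.C c : B) • p = c • p := fun c p => by
    show MvPolynomial.aeval t (MvPolynomial.C c) • p = c • p
    rw [MvPolynomial.aeval_C, algebraMap_smul]
  let Φ : P →ₗ[B] N ⊗[k] U :=
    { toFun := fun p => Φ₀ (φ p)
      map_add' := fun p p' => by rw [map_add, map_add]
      map_smul' := fun a p => by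
        simp only [RingHom.id_apply]
        induction a using MvPolynomial.induction_on generalizing p with
        | C c =>
          rw [hBC, map_smul, map_smul, ← MvPolynomial.algebraMap_eq, algebraMap_smul]
        | add a b ha hb => rw [add_smul, map_add, map_add, ha, hb, add_smul]
        | mul_X a i ha =>
          rw [mul_smul, ha, mul_smul]
          congr 1
          rw [show (MvPolynomial.X i : B) • p = t i • p from by
            show MvPolynomial.aeval t (MvPolynomial.X i) • p = _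
            rw [MvPolynomial.aeval_X], hsmul, htψ, hkey] }
  obtain ⟨F, hF⟩ := exists_liftPieces (k := k) 𝒩 (fun c i a ha => SegreDim.smul_mem_piece ℬ 𝒩 c ha)
    (fun n b => (((TensorProduct.mk k M N).flip b).comp ((θ n).comp U.subtype) : U →ₗ[k] M ⊗[k] N))
    (fun i a b _ _ => LinearMap.ext fun v => by simp [tmul_add])
    (fun c i a _ => LinearMap.ext fun v => by simp [tmul_smul])
  let r₀ : N ⊗[k] U →ₗ[k] M ⊗[k] N := TensorProduct.lift F
  have hr₀ : ∀ n, ∀ b ∈ 𝒩 n, ∀ v : U, r₀ (b ⊗ₜ[k] v) = θ n v ⊗ₜ[k] b := fun n b hb v => by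
    show TensorProduct.lift F (b ⊗ₜ[k] v) = _
    rw [TensorProduct.lift.tmul, hF n b hb]; rfl
  have hrΦ : ∀ n, Good ℳ D y n → ∀ w ∈ GrSeg.segrePiece k ℳ 𝒩 n, r₀ (Φ₀ w) = w := by
    intro n hn w hw
    induction hw using Submodule.span_induction with
    | mem w hw =>
      obtain ⟨a, ha, b, hb, rfl⟩ := hw
      rw [hΦ₀, hr₀ n b hb, show ((η' a : U) : M) = η a from rfl, hθη n hn a ha]
    | zero => simp
    | add p q _ _ hp hq => rw [map_add, map_add, hp, hq]
    | smul c p _ hp => rw [map_smul, map_smul, hp]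
  haveI hfinNU : Module.Finite B (N ⊗[k] U) := by
    obtain ⟨gs, hgs⟩ := (inferInstance : Module.Finite B N).fg_top
    obtain ⟨us, hus⟩ := hUfin.fg_top
    refine ⟨⟨(gs ×ˢ us).image fun p => p.1 ⊗ₜ[k] p.2, ?_⟩⟩
    rw [eq_top_iff]
    intro w hw_top
    clear hw_top
    induction w using TensorProduct.induction_on with
    | zero => exact zero_mem _
    | add p q hp hq => exact add_mem hp hq
    | tmul a b =>
      have ha : a ∈ Submodule.span B (gs : Set N) := hgs ▸ Submodule.mem_top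
      induction ha using Submodule.span_induction with
      | zero => rw [zero_tmul]; exact zero_mem _
      | add p q _ _ hp hq => rw [add_tmul]; exact add_mem hp hq
      | smul c p _ hp => rw [← TensorProduct.smul_tmul']; exact Submodule.smul_mem _ _ hp
      | mem a ha =>
        have hb : b ∈ Submodule.span k (us : Set U) := hus ▸ Submodule.mem_top
        induction hb using Submodule.span_induction with
        | zero => rw [tmul_zero]; exact zero_mem _
        | add p q _ _ hp hq => rw [tmul_add]; exact add_mem hp hq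
        | smul c p _ hp => rw [tmul_smul]; exact Submodule.smul_of_tower_mem _ c hp
        | mem b hb =>
          exact Submodule.subset_span (Finset.mem_coe.mpr (Finset.mem_image.mpr
            ⟨(a, b), Finset.mem_product.mpr ⟨ha, hb⟩, rfl⟩))
  haveI hprojNU : Module.Projective B (N ⊗[k] U) := inferInstance
  rcases hcond with hgood | hs1
  · -- retraction
    have hrange : ∀ w, r₀ w ∈ LinearMap.range φ := by
      intro w
      induction w using TensorProduct.induction_on with
      | zero => rw [map_zero]; exact zero_mem _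
      | add p q hp hq => rw [map_add]; exact add_mem hp hq
      | tmul b v =>
        induction b using GrLib.induction 𝒩 with
        | zero => rw [zero_tmul, map_zero]; exact zero_mem _
        | hom n b hb =>
          rw [hr₀ n b hb]
          obtain ⟨p, -, hp⟩ : θ n v ⊗ₜ[k] b ∈ φ '' (𝒬 n : Set P) := by
            rw [hdegP]; exact Submodule.subset_span ⟨_, hθmem n _, b, hb, rfl⟩
          exact ⟨p, hp⟩
        | add a b ha hb => rw [add_tmul, map_add]; exact add_mem ha hb
    let r : N ⊗[k] U → P := fun w => (hrange w).choose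
    have hr : ∀ w, φ (r w) = r₀ w := fun w => (hrange w).choose_spec
    have hrX : ∀ i w, r₀ ((MvPolynomial.X i : B) • w) = GrSeg.act k R S M N (y ⊗ₜ[k] z i) (r₀ w) := by
      intro i w
      induction w using TensorProduct.induction_on with
      | zero => simp
      | add p q hp hq => rw [smul_add, map_add, map_add, map_add, hp, hq]
      | tmul b v =>
        induction b using GrLib.induction 𝒩 with
        | zero => simp
        | hom n b hb =>
          rw [TensorProduct.smul_tmul', show (MvPolynomial.X i : B) • b = z i • b from by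
            show MvPolynomial.aeval z (MvPolynomial.X i) • b = _
            rw [MvPolynomial.aeval_X], hr₀ n b hb]
          have hzb : z i • b ∈ 𝒩 (n + D) := by
            rw [add_comm]; exact GrLib.smul_mem (𝒜 := ℬ) (ℳ := 𝒩) (hz i) hb
          rw [hr₀ _ _ hzb, GrSeg.act_tmul]
          by_cases h0 : z i • b = 0
          · rw [h0, tmul_zero, tmul_zero]
          · rw [hθD n (hgood n ⟨b, hb, fun h => h0 (by rw [h, smul_zero])⟩) (hgood _ ⟨_, hzb, h0⟩)]
        | add a b ha hb => rw [add_tmul, smul_add, map_add, map_add, map_add, ha, hb]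
    let rB : N ⊗[k] U →ₗ[B] P :=
      { toFun := r
        map_add' := fun p q => hφ (by rw [map_add, hr, hr, hr, map_add])
        map_smul' := fun a w => by
          simp only [RingHom.id_apply]
          induction a using MvPolynomial.induction_on generalizing w with
          | C c =>
            apply hφ
            rw [hr, hBC, φ.map_smul, hr, ← MvPolynomial.algebraMap_eq, algebraMap_smul, r₀.map_smul]
          | add a b ha hb =>
            apply hφ
            rw [hr, add_smul, add_smul, map_add, map_add, ← ha, ← hb, hr, hr]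
          | mul_X a i ha =>
            rw [mul_smul, ha, mul_smul]
            congr 1
            apply hφ
            rw [hr, hrX, show (MvPolynomial.X i : B) • r w = t i • r w from by
              show MvPolynomial.aeval t (MvPolynomial.X i) • r w = _
              rw [MvPolynomial.aeval_X], hsmul, htψ, hr] }
    have hcomp : ∀ p, rB (Φ p) = p := by
      intro p
      apply hφ
      show φ (r (Φ₀ (φ p))) = φ p
      rw [hr]
      induction p using GrLib.induction 𝒬 with
      | zero => simp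
      | hom n p hp =>
        have hw : φ p ∈ GrSeg.segrePiece k ℳ 𝒩 n := (hdegP n).subset ⟨p, hp, rfl⟩
        by_cases hN : ∃ b ∈ 𝒩 n, b ≠ 0
        · exact hrΦ n (hgood n hN) _ hw
        · have h0 : φ p = 0 := by
            have hle : GrSeg.segrePiece k ℳ 𝒩 n ≤ ⊥ := Submodule.span_le.mpr (by
              rintro _ ⟨a, _, b, hb, rfl⟩
              have : b = 0 := by
                by_contra hb0
                exact hN ⟨b, hb, hb0⟩
              simp [this])
            simpa using hle hw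
          simp [h0]
      | add a b ha hb => rw [map_add, map_add, map_add, ha, hb]
    haveI : Module.Projective B P := Module.Projective.of_split Φ rB (LinearMap.ext hcomp)
    haveI : Module.Finite B P := Module.Finite.of_surjective rB fun p => ⟨Φ p, hcomp p⟩
    exact cm_of_projective (B := B) P q
  · subst hs1
    have htreg : ∀ p : P, t 0 • p = 0 → p = 0 := fun p hp => hφ (by
      have h := congrArg φ hp
      rw [hsmul, htψ, map_zero] at h
      rw [map_zero]
      exact map_smul_injective hyreg (hzreg 0) (by rw [h, map_zero]))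
    have hinj : Function.Injective Φ := by
      rw [injective_iff_map_eq_zero]
      intro p hp
      obtain ⟨J, hJ⟩ : ∃ J : ℕ, ∀ n ∈ (decompose 𝒬 p).support, n₀ ≤ n + J * D := by
        refine ⟨((decompose 𝒬 p).support.sup fun n => (n₀ - n).toNat), fun n hn => ?_⟩
        have h1 : (n₀ - n).toNat ≤ (decompose 𝒬 p).support.sup fun n => (n₀ - n).toNat :=
          Finset.le_sup (f := fun n => (n₀ - n).toNat) hn
        have h2 : (1 : ℤ) ≤ D := by exact_mod_cast hD
        have h3 : (0 : ℤ) ≤ ((decompose 𝒬 p).support.sup fun n => (n₀ - n).toNat : ℕ) := Int.natCast_nonneg _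
        have h4 := mul_le_mul_of_nonneg_left h2 h3
        omega
      have hX : ∀ (p : P), (MvPolynomial.X 0 : B) • p = t 0 • p := fun p => by
        show MvPolynomial.aeval t (MvPolynomial.X 0) • p = _
        rw [MvPolynomial.aeval_X]
      have hpow : ∀ (j : ℕ) (p : P), (MvPolynomial.X 0 : B) ^ j • p = t 0 ^ j • p := by
        intro j
        induction j with
        | zero => intro p; simp
        | succ j ih => intro p; rw [pow_succ, pow_succ, mul_smul, mul_smul, hX, ih]
      have hzero : t 0 ^ J • p = 0 := by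
        apply hφ
        rw [map_zero]
        have e1 : Φ₀ (φ (t 0 ^ J • p)) = 0 := by
          rw [← hpow]
          show Φ ((MvPolynomial.X 0 : B) ^ J • p) = 0
          rw [map_smul, hp, smul_zero]
        have e2 : r₀ (Φ₀ (φ (t 0 ^ J • p))) = φ (t 0 ^ J • p) := by
          conv_lhs => rw [← sum_support_decompose 𝒬 p]
          conv_rhs => rw [← sum_support_decompose 𝒬 p]
          simp only [Finset.smul_sum, map_sum]
          refine Finset.sum_congr rfl fun n hn => hrΦ (n + J * D) (hdiv _ (hJ n hn)) _ ?_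
          haveI := gradedSMul 𝒜 ℬ 𝒯 ψ hdegT ℳ 𝒩 𝒬 φ hφ hdegP hsmul
          refine (hdegP _).subset ⟨_, ?_, rfl⟩
          have := GrLib.smul_mem (𝒜 := 𝒯) (ℳ := 𝒬) (SetLike.pow_mem_graded (A := 𝒯) J (ht 0))
            (decompose 𝒬 p n).2
          rwa [nsmul_eq_mul, add_comm] at this
        rw [← e2, e1, map_zero]
      clear hJ
      induction J with
      | zero => simpa using hzero
      | succ J ih =>
        rw [pow_succ', mul_smul] at hzero
        exact ih (htreg _ hzero)
    haveI : IsPrincipalIdealRing B :=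
      IsPrincipalIdealRing.of_surjective (MvPolynomial.uniqueAlgEquiv k (Fin 1)).symm.toRingHom
        (MvPolynomial.uniqueAlgEquiv k (Fin 1)).symm.surjective
    haveI : Module.IsTorsionFree B (N ⊗[k] U) := inferInstance
    haveI : Module.Finite B P := Module.Finite.of_injective Φ hinj
    haveI : Module.IsTorsionFree B P := hinj.moduleIsTorsionFree Φ (map_smul Φ)
    haveI : Module.Free B P := Module.free_of_finite_type_torsion_free'
    exact cm_of_projective (B := B) P q

include hposR h0R hposS h0S hψ hdegT hφ hdegP hsmul in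
/-- Conversely the pieces are stationary. -/
theorem good_of_cm (s : ℕ) (hs : 2 ≤ s) (hdM : Module.supportDim R M = 1) (hdN : Module.supportDim S N = s)
    (hMcm : ∀ (q : Ideal R) [q.IsPrime], Subsingleton (LocalizedModule q.primeCompl M) ∨
      LocCoh.IsCohenMacaulayModule (Localization.AtPrime q) (LocalizedModule q.primeCompl M))
    (hNcm : ∀ (q : Ideal S) [q.IsPrime], Subsingleton (LocalizedModule q.primeCompl N) ∨
      LocCoh.IsCohenMacaulayModule (Localization.AtPrime q) (LocalizedModule q.primeCompl N))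
    {D : ℕ} {y : R} {z : Fin s → S} (hD : 0 < D) (hy : y ∈ 𝒜 (D : ℤ)) (hz : ∀ i, z i ∈ ℬ (D : ℤ))
    (hyreg : IsSMulRegular M y) (hzreg : ∀ i, IsSMulRegular N (z i))
    (hyint : ((Ideal.Quotient.mkₐ k (Module.annihilator R M)).comp
        (MvPolynomial.aeval fun _ : Fin 1 => y)).toRingHom.IsIntegral)
    (hP : ∀ (q : Ideal T) [q.IsPrime], Subsingleton (LocalizedModule q.primeCompl P) ∨
      LocCoh.IsCohenMacaulayModule (Localization.AtPrime q) (LocalizedModule q.primeCompl P))
    (n : ℤ) (hN : ∃ b ∈ 𝒩 n, b ≠ 0) : Good ℳ D y n := by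
  classical
  intro j x hx
  by_contra hcon
  simp only [not_exists, not_and] at hcon
  obtain ⟨b, hb, hb0⟩ := hN
  obtain ⟨g, hg⟩ := Module.Projective.exists_dual_ne_zero k hb0
  let G : M ⊗[k] N →ₗ[k] M := (TensorProduct.rid k M).toLinearMap.comp (g.lTensor M)
  have hG : ∀ (a : M) (c : N), G (a ⊗ₜ[k] c) = g c • a := fun a c => by simp [G]
  let w : S := z ⟨0, by omega⟩ ^ j
  have hw : w ∈ ℬ (((j * D : ℕ)) : ℤ) := by
    have := SetLike.pow_mem_graded (A := ℬ) j (hz ⟨0, by omega⟩)
    simpa [nsmul_eq_mul] using this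
  have hyj : y ^ j ∈ 𝒜 (((j * D : ℕ)) : ℤ) := by
    have := SetLike.pow_mem_graded (A := 𝒜) j hy
    simpa [nsmul_eq_mul] using this
  have hwreg : IsSMulRegular N w := (hzreg _).pow j
  have hinjw : Function.Injective ((Algebra.lsmul k k N w).lTensor M) :=
    Module.Flat.lTensor_preserves_injective_linearMap _ hwreg
  obtain ⟨t₁, ht₁, ht₁ψ⟩ : ∃ t ∈ 𝒯 (((j * D : ℕ)) : ℤ), ψ t = (y ^ j) ⊗ₜ[k] w := by
    have : (y ^ j) ⊗ₜ[k] w ∈ (𝒯 (((j * D : ℕ)) : ℤ)).map ψ.toLinearMap := by
      rw [hdegT]; exact Submodule.subset_span ⟨_, hyj, w, hw, rfl⟩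
    exact this
  have hwb : w • b ∈ 𝒩 (n + j * D) := by
    have := GrLib.smul_mem (𝒜 := ℬ) (ℳ := 𝒩) hw hb
    rwa [add_comm, Nat.cast_mul] at this
  obtain ⟨e, he, heφ⟩ : x ⊗ₜ[k] (w • b) ∈ φ '' (𝒬 (n + j * D) : Set P) := by
    rw [hdegP]; exact Submodule.subset_span ⟨x, hx, _, hwb, rfl⟩
  haveI := gradedSMul 𝒜 ℬ 𝒯 ψ hdegT ℳ 𝒩 𝒬 φ hφ hdegP hsmul
  -- the obstruction
  have heJ : ∀ p : P, t₁ • p ≠ e := by
    intro p hp
    have h1 : t₁ • GrLib.proj 𝒬 n p = e := by
      have h := congrArg (GrLib.proj 𝒬 (n + j * D)) hp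
      rw [GrLib.proj_of_mem he] at h
      rw [← h, GrLib.proj_smul' (𝒜 := 𝒯) (ℳ := 𝒬) ht₁,
        show n + (j : ℤ) * D - ((j * D : ℕ) : ℤ) = n by push_cast; ring]
    have h2 := congrArg φ h1
    rw [hsmul, ht₁ψ, heφ] at h2
    have hpiece : φ (GrLib.proj 𝒬 n p) ∈ GrSeg.segrePiece k ℳ 𝒩 n :=
      (hdegP n).subset ⟨_, GrLib.proj_mem 𝒬 n p, rfl⟩
    have h3 : ((Algebra.lsmul k k M (y ^ j)).rTensor N) (φ (GrLib.proj 𝒬 n p)) = x ⊗ₜ[k] b := by
      apply hinjw
      rw [LinearMap.lTensor_tmul, ← LinearMap.comp_apply]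
      refine Eq.trans ?_ h2
      congr 1
      exact TensorProduct.ext' fun a c => by
        simp only [LinearMap.comp_apply, LinearMap.rTensor_tmul, LinearMap.lTensor_tmul, GrSeg.act_tmul]
        rfl
    have h4 := congrArg G h3
    rw [hG] at h4
    have hmemG : ∀ v ∈ GrSeg.segrePiece k ℳ 𝒩 n, G v ∈ ℳ n := by
      intro v hv
      induction hv using Submodule.span_induction with
      | mem v hv => obtain ⟨a, ha, c, -, rfl⟩ := hv; rw [hG]; exact SegreDim.smul_mem_piece 𝒜 ℳ _ ha
      | zero => rw [map_zero]; exact zero_mem _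
      | add p q _ _ hp hq => rw [map_add]; exact add_mem hp hq
      | smul c p _ hp => rw [map_smul]; exact SegreDim.smul_mem_piece 𝒜 ℳ c hp
    have hcomm : ∀ v, G ((Algebra.lsmul k k M (y ^ j)).rTensor N v) = y ^ j • G v := by
      intro v
      induction v using TensorProduct.induction_on with
      | zero => simp
      | add p q hp hq => rw [map_add, map_add, map_add, hp, hq, smul_add]
      | tmul a c => rw [LinearMap.rTensor_tmul, hG, hG, smul_comm]; rfl
    rw [hcomm] at h4
    refine hcon ((g b)⁻¹ • G (φ (GrLib.proj 𝒬 n p)))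
      (SegreDim.smul_mem_piece 𝒜 ℳ _ (hmemG _ hpiece)) ?_
    rw [smul_comm, h4, inv_smul_smul₀ hg]
  haveI hPnt : Nontrivial P := ⟨⟨e, 0, fun h => heJ 0 (by rw [smul_zero, h])⟩⟩
  -- Noetherian data
  haveI : IsNoetherianRing T := by
    haveI := SegreDim.isNoetherian_segre 𝒜 𝒜 ℬ ℬ 𝒯 ψ hdegT 𝒯 ψ.toLinearMap hψ
      (fun n => by rw [← hdegT n, Submodule.map_coe]) (fun t p => by
        rw [SegreDim.act_eq_mul]; exact map_mul ψ t p)
    exact isNoetherianRing_iff.mpr this
  haveI := SegreDim.isNoetherian_segre 𝒜 ℳ ℬ 𝒩 𝒯 ψ hdegT 𝒬 φ hφ hdegP hsmul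
  haveI : Module.Finite T P := inferInstance
  obtain ⟨hposT, h0T⟩ := SegreDim.segre_pos_and_zero 𝒜 hposR h0R ℬ hposS h0S 𝒯 ψ hψ hdegT
  haveI : Algebra.FiniteType k T := SegreDim.finiteType_of_isNoetherianRing 𝒯 hposT h0T
  haveI : Nontrivial T := Module.nontrivial T P
  obtain ⟨s, rfl⟩ : ∃ s', s = s' + 1 := ⟨s - 1, by omega⟩
  have hdimP : Module.supportDim T P = ((s + 1 : ℕ) : WithBot ℕ∞) := by
    have hass1 : ∀ p ∈ associatedPrimes R M, ringKrullDim (R ⧸ p) = ((0 + 1 : ℕ) : WithBot ℕ∞) := fun p hp => by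
      rw [SegreDim.ringKrullDim_quotient_eq_supportDim_of_cm 𝒜 hposR h0R ℳ hMcm hp, hdM]; rfl
    have hass2 : ∀ p ∈ associatedPrimes S N, ringKrullDim (S ⧸ p) = ((s + 1 : ℕ) : WithBot ℕ∞) := fun p hp => by
      rw [SegreDim.ringKrullDim_quotient_eq_supportDim_of_cm ℬ hposS h0S 𝒩 hNcm hp, hdN]
    have := SegreDim.supportDim_segre_of_faithful 𝒜 ℳ ℬ 𝒩 hposR h0R hposS h0S 𝒯 ψ hψ hdegT 𝒬 φ
      hφ hdegP hsmul 0 s (by rw [hdM]; rfl) hdN fun D' y' z' _ _ _ _ hy' _ hz' => by
        obtain ⟨n₁, f, hf, hfq⟩ := SegreDim.exists_coords (M := M) y' hy' fun q m hq hm =>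
          SegreDim.eq_zero_of_aeval_smul y' hass1 hy' hq hm
        obtain ⟨n₂, g', hg', hgq⟩ := SegreDim.exists_coords (M := N) z' hz' fun q m hq hm =>
          SegreDim.eq_zero_of_aeval_smul z' hass2 hz' hq hm
        obtain ⟨p₀, hp₀⟩ := exists_ne (0 : P)
        exact ⟨p₀, fun c hc => SegreDim.eq_zero_of_act_eq_zero y' z' f hf hfq g' hg' hgq
          (fun h => hp₀ (hφ (by rw [h, map_zero]))) hc⟩
    rw [this, show 0 + 1 + s = s + 1 by omega]
  let m := SegreDim.irr 𝒯
  haveI hm : m.IsMaximal := SegreDim.irr_isMaximal 𝒯 hposT h0T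
  obtain ⟨Q, hQ⟩ := associatedPrimes.nonempty T P
  have hQm : Q ≤ m := SegreDim.le_irr_of_isHomogeneous 𝒯 hposT h0T
    (SegreDim.isHomogeneous_of_mem_associatedPrimes 𝒯 𝒬 hQ) (IsAssociatedPrime.isPrime hQ).ne_top
  have hlow := le_supportDim_localized k hQ hQm
  rw [SegreDim.ringKrullDim_quotient_eq_supportDim_of_cm 𝒯 hposT h0T 𝒬 hP hQ, hdimP] at hlow
  have hcm : LocCoh.IsCohenMacaulayModule (Localization.AtPrime m) (LocalizedModule m.primeCompl P) := by
    refine (hP m).resolve_left fun hs' => ?_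
    rw [Module.supportDim_eq_bot_of_subsingleton (Localization.AtPrime m) (LocalizedModule m.primeCompl P)] at hlow
    simp at hlow
  -- regularity
  have ht₁reg : IsSMulRegular P t₁ := isSMulRegular_iff_right_eq_zero_of_smul.mpr fun p hp => hφ (by
    have h := congrArg φ hp
    rw [hsmul, ht₁ψ, map_zero] at h
    rw [map_zero]
    exact map_smul_injective (hyreg.pow j) hwreg (by rw [h, map_zero]))
  let ebar : QuotSMulTop t₁ P := Submodule.Quotient.mk e
  have hebar : ebar ≠ 0 := fun h => by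
    rw [Submodule.Quotient.mk_eq_zero, Submodule.mem_smul_pointwise_iff_exists] at h
    obtain ⟨p, -, hp⟩ := h
    exact heJ p hp
  obtain ⟨Q', hQ', hQ'le⟩ := exists_le_isAssociatedPrime_of_isNoetherianRing T ebar hebar
  obtain ⟨n₀, hdiv⟩ := exists_divisible 𝒜 ℳ hy hD hyint
  let C : ℕ := max (n₀ - n).toNat 1
  have hhigh : ∀ c : ℤ, (C : ℤ) ≤ c → ∀ t ∈ 𝒯 c, ∃ p : P, t • e = t₁ • p := by
    intro c hc t ht
    have hψt : ψ t ∈ GrSeg.segrePiece k 𝒜 ℬ c := by rw [← hdegT]; exact ⟨t, ht, rfl⟩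
    suffices ∃ v, v ∈ LinearMap.range φ ∧
        GrSeg.act k R S M N (ψ t) (x ⊗ₜ[k] (w • b)) = GrSeg.act k R S M N ((y ^ j) ⊗ₜ[k] w) v by
      obtain ⟨_, ⟨p, rfl⟩, hv⟩ := this
      exact ⟨p, hφ (by rw [hsmul, hsmul, heφ, ht₁ψ, hv])⟩
    refine Submodule.span_induction (p := fun ξ _ => ∃ v, v ∈ LinearMap.range φ ∧
        GrSeg.act k R S M N ξ (x ⊗ₜ[k] (w • b)) = GrSeg.act k R S M N ((y ^ j) ⊗ₜ[k] w) v) ?_
      ⟨0, zero_mem _, by simp⟩
      (fun _ _ _ _ ⟨u, hu, hu'⟩ ⟨v, hv, hv'⟩ => ⟨u + v, add_mem hu hv, by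
        rw [map_add, LinearMap.add_apply, hu', hv', map_add]⟩)
      (fun a _ _ ⟨u, hu, hu'⟩ => ⟨a • u, Submodule.smul_mem _ a hu, by
        rw [map_smul, LinearMap.smul_apply, hu', map_smul]⟩) hψt
    rintro _ ⟨r, hr, s', hs', rfl⟩
    have hrx : r • x ∈ ℳ ((c + n) + j * D) := by
      rw [add_assoc]; exact GrLib.smul_mem (𝒜 := 𝒜) (ℳ := ℳ) hr hx
    obtain ⟨x', hx', hxe⟩ := hdiv (c + n) (by omega) j _ hrx
    have hsb : s' • b ∈ 𝒩 (c + n) := GrLib.smul_mem (𝒜 := ℬ) (ℳ := 𝒩) hs' hb
    refine ⟨x' ⊗ₜ[k] (s' • b), ?_, ?_⟩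
    · obtain ⟨p, -, hp⟩ : x' ⊗ₜ[k] (s' • b) ∈ φ '' (𝒬 (c + n) : Set P) := by
        rw [hdegP]; exact Submodule.subset_span ⟨x', hx', _, hsb, rfl⟩
      exact ⟨p, hp⟩
    · rw [GrSeg.act_tmul, GrSeg.act_tmul, ← hxe, smul_comm s' w b]
  have hQ'eq : Q' = m := by
    haveI := hQ'.isPrime
    refine (hm.eq_of_le hQ'.isPrime.ne_top (Ideal.span_le.mpr fun a ha => ?_)).symm
    simp only [Set.mem_iUnion, Set.mem_Ioi] at ha
    obtain ⟨c, hc, hac⟩ := ha
    refine hQ'.isPrime.mem_of_pow_mem C (hQ'le ?_)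
    rw [Submodule.mem_colon_singleton, Submodule.mem_bot]
    have hC : (C : ℤ) ≤ C • c := by
      rw [nsmul_eq_mul]
      exact le_mul_of_one_le_right (Int.natCast_nonneg C) (by omega)
    obtain ⟨p, hp⟩ := hhigh _ hC _ (SetLike.pow_mem_graded (A := 𝒯) C hac)
    show Submodule.Quotient.mk (a ^ C • e) = (0 : QuotSMulTop t₁ P)
    rw [Submodule.Quotient.mk_eq_zero, Submodule.mem_smul_pointwise_iff_exists]
    exact ⟨p, trivial, hp.symm⟩
  subst hQ'eq
  -- at the vertex
  have hjD : 0 < j * D := by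
    rcases Nat.eq_zero_or_pos j with rfl | hj
    · exact absurd (by simpa using hx) (fun h => hcon x h (by simp))
    · exact Nat.mul_pos hj hD
  have ht₁m : algebraMap T (Localization.AtPrime (SegreDim.irr 𝒯)) t₁ ∈
      IsLocalRing.maximalIdeal (Localization.AtPrime (SegreDim.irr 𝒯)) := by
    rw [← Localization.AtPrime.map_eq_maximalIdeal]
    exact Ideal.mem_map_of_mem _ (SegreDim.mem_irr_of_mem 𝒯 (by exact_mod_cast hjD) ht₁)
  have ht₁reg' := CAlgH3.isSMulRegular_localization ht₁reg (SegreDim.irr 𝒯)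
  have hquot := (CAlgH3.isCohenMacaulayModule_quotSMulTop_iff ht₁m ht₁reg').2 hcm
  have hass : IsLocalRing.maximalIdeal (Localization.AtPrime (SegreDim.irr 𝒯)) ∈
      associatedPrimes (Localization.AtPrime (SegreDim.irr 𝒯))
        (LocalizedModule (SegreDim.irr 𝒯).primeCompl (QuotSMulTop t₁ P)) := by
    refine Module.associatedPrimes.mem_associatedPrimes_of_comap_mem_associatedPrimes_of_isLocalizedModule
      (SegreDim.irr 𝒯).primeCompl (LocalizedModule.mkLinearMap (SegreDim.irr 𝒯).primeCompl (QuotSMulTop t₁ P)) _ ?_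
    rw [← Ideal.under_def, Localization.AtPrime.under_maximalIdeal]
    exact hQ'
  rw [← CAlgH3.isCohenMacaulayModule_congr (CAlgH3.localizedQuotSMulTop (SegreDim.irr 𝒯) P t₁).symm] at hquot
  have h0 := CAlgH3.ringKrullDim_quotient_eq_of_mem_associatedPrimes hquot hass
  letI := Ideal.Quotient.field (IsLocalRing.maximalIdeal (Localization.AtPrime (SegreDim.irr 𝒯)))
  rw [ringKrullDim_eq_zero_of_field] at h0
  have hsucc := Module.supportDim_quotSMulTop_succ_eq_supportDim ht₁reg' ht₁m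
  rw [Module.supportDim_eq_of_equiv (CAlgH3.localizedQuotSMulTop (SegreDim.irr 𝒯) P t₁), ← h0, zero_add] at hsucc
  rw [← hsucc] at hlow
  have : s + 1 ≤ 1 := by exact_mod_cast hlow
  omega

end Groth.Agent.SegreOne
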